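import Groth.Agent.DefFin29.Extend
import Groth.Agent.InfAut29.Auto
import Groth.Agent.SemiExt29.TangentW
import Mathlib.Topology.Sheaves.SheafCondition.Sites

/-!
# The functionals on the ideal of the graph of a first order deformation
-/

set_option autoImplicit false
set_option backward.isDefEq.respectTransparency.types false
set_option backward.isDefEq.respectTransparency false
set_option linter.style.haveILetI false

universe u

open CategoryTheory CategoryTheory.Limits AlgebraicGeometry TopologicalSpace Opposite IsLocalRing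
open Groth.Agent.OmegaLib Groth.Agent.ArtGlobal29 Groth.Agent.InfAut29 Groth.Agent.DeformSqZero
open ArtFun Groth.Agent.SemiExt29

noncomputable section

namespace Groth.Agent.DefFin29

variable {k : Type u} [Field k]

/-- A module map from additive maps given on a basis and linear there. -/
theorem exists_hom_of_basis {Z : Scheme.{u}} {F G : Z.Modules} {ι : Type u} (B : ι → Z.Opens)
    (hB : Opens.IsBasis (Set.range B)) (f : ∀ j, Γ(F, B j) →+ Γ(G, B j))
    (hnat : ∀ j j' (h : B j ≤ B j') (s : Γ(F, B j')),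
      f j (F.presheaf.map (homOfLE h).op s) = G.presheaf.map (homOfLE h).op (f j' s))
    (hlin : ∀ j (r : Γ(Z, B j)) (s : Γ(F, B j)), f j (r • s) = r • f j s) :
    ∃ φ : F ⟶ G, ∀ j s, φ.app (B j) s = f j s := by
  let G' : TopCat.Sheaf Ab.{u} Z.toTopCat := ⟨G.presheaf, G.isSheaf⟩
  let α : (inducedFunctor B).op ⋙ F.presheaf ⟶ (inducedFunctor B).op ⋙ G'.1 :=
    { app := fun j => AddCommGrpCat.ofHom (f j.unop)
      naturality := fun j j' g => by
        ext s
        exact hnat j'.unop j.unop (leOfHom ((inducedFunctor B).map g.unop)) s }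
  let β := TopCat.Sheaf.restrictHomEquivHom F.presheaf G' hB α
  have hβ : ∀ j (s : Γ(F, B j)), (β.app (op (B j))).hom s = f j s := fun j s => by
    show ((TopCat.Sheaf.restrictHomEquivHom F.presheaf G' hB α).app (op (B j))).hom s = _
    rw [TopCat.Sheaf.extend_hom_app]
    rfl
  have hmap : ∀ {U V : Z.Opens} (h : U ≤ V) (s : Γ(F, V)),
      (β.app (op U)).hom (F.presheaf.map (homOfLE h).op s) = G.presheaf.map (homOfLE h).op ((β.app (op V)).hom s) :=
    fun h s => ConcreteCategory.congr_hom (β.naturality (homOfLE h).op) s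
  refine ⟨⟨PresheafOfModules.homMk β ?_⟩, fun j s => hβ j s⟩
  rintro ⟨U⟩ r s
  refine section_ext (F := G) (U := U) fun y hy => ?_
  obtain ⟨_, ⟨j, rfl⟩, hyj, hjU⟩ := Opens.isBasis_iff_nbhd.mp hB hy
  refine ⟨B j, hjU, hyj, ?_⟩
  change G.presheaf.map (homOfLE hjU).op ((β.app (op U)).hom ((show Γ(Z, U) from r) • (show Γ(F, U) from s))) =
    G.presheaf.map (homOfLE hjU).op ((show Γ(Z, U) from r) • (show Γ(G, U) from (β.app (op U)).hom s))
  rw [← hmap, Scheme.Modules.map_smul, Scheme.Modules.map_smul, hβ, hlin, ← hβ, hmap]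

theorem mem_max_artW {n : ℕ} {a : artW k k n} :
    a ∈ maximalIdeal (artW k k n) ↔ (artW k k n).res a = 0 := by
  rw [← InfAut29.ker_eq (artW k k n).res_surjective, RingHom.mem_ker]
  rfl

/-- The functional on the maximal ideal of `k[W]` attached to a linear form on `W`. -/
def coordHom (n : ℕ) (l : (Fin n → k) →ₗ[k] k) :
    ↥(maximalIdeal (artW k k n)) →ₗ[artW k k n] artW k k n ⧸ maximalIdeal (artW k k n) where
  toFun a := Ideal.Quotient.mk _ (algebraMap k (artW k k n) (l (TrivSqZeroExt.snd a.1)))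
  map_add' a b := by
    rw [← map_add, ← map_add, ← map_add]
    rfl
  map_smul' c a := by
    rw [RingHom.id_apply, Algebra.smul_def, Ideal.Quotient.algebraMap_eq, ← map_mul]
    have hc : c - algebraMap k (artW k k n) ((artW k k n).res c) ∈ maximalIdeal (artW k k n) := by
      rw [mem_max_artW, map_sub, AlgHom.commutes]
      exact sub_self _
    have h2 : TrivSqZeroExt.snd ((c • a : ↥(maximalIdeal (artW k k n))) : artW k k n) =
        (artW k k n).res c • TrivSqZeroExt.snd a.1 := by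
      have ha : TrivSqZeroExt.fst a.1 = 0 := mem_max_artW.1 a.2
      show TrivSqZeroExt.snd ((show TrivSqZeroExt k (Fin n → k) from c) * (show TrivSqZeroExt k (Fin n → k) from a.1)) = _
      rw [TrivSqZeroExt.snd_mul, ha, MulOpposite.op_zero, zero_smul, add_zero]
      rfl
    rw [h2, map_smul, smul_eq_mul, map_mul]
    refine Ideal.Quotient.eq.2 ?_
    rw [← sub_mul, ← neg_sub c, neg_mul, neg_mem_iff]
    exact Ideal.mul_mem_right _ _ hc

variable {X P Z : Scheme.{u}} {Δ : X ⟶ P} [IsClosedImmersion Δ] {c : P ⟶ Z} [IsClosedImmersion c]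
  {α : ClSub.idealMod (Δ ≫ c).ker ⟶ (Scheme.Modules.pushforward c).obj (ClSub.idealMod Δ.ker)}

variable {pP : P ⟶ Spec (CommRingCat.of k)} {n : ℕ} {g : Z ⟶ Spec (CommRingCat.of (artW k k n))} [Flat g]
  (hP : IsPullback c pP g (Art.specRes (artW k k n)))

include hP in
theorem appKer {U : Z.Opens} (a : artW k k n) (ha : a ∈ maximalIdeal (artW k k n)) :
    c.app U (strMap g U a) = 0 := by
  refine (i_app_strMap (artW k k n).res_surjective hP U a).trans ?_
  have h : (artW k k n).res a = 0 := mem_max_artW.1 ha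
  exact (congrArg (strMap pP (c ⁻¹ᵁ U)) h).trans (map_zero _)

include hP in
theorem app_gamma_ker {U : Z.Opens} (a : artW k k n) (ha : a ∈ maximalIdeal (artW k k n)) :
    (Δ ≫ c).app U (strMap g U a) = 0 := by
  rw [Scheme.Hom.comp_app, CommRingCat.comp_apply, appKer hP a ha, map_zero]

include hP in
/-- The functional of a linear form: on `a = ∑ wᵢ bᵢ` it is `∑ l(wᵢ) b̄ᵢ`. -/
theorem exists_psi (hα : IsRed Δ c α) (l : (Fin n → k) →ₗ[k] k) :
    ∃ ψ : kernel α ⟶ (Scheme.Modules.pushforward c).obj ((Scheme.Modules.pushforward Δ).obj (Coh.structureModule X)),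
      ∀ (U : Z.affineOpens) (hq : (maximalIdeal (artW k k n)).map (strMap g U.1) ≤ RingHom.ker ((Δ ≫ c).app U.1).hom)
        (s : Γ(kernel α, U.1)),
        letI : Algebra (artW k k n) Γ(Z, U.1) := (strMap g U.1).toAlgebra
        ∀ z, mulMap (maximalIdeal (artW k k n)) Γ(Z, U.1) z = OmegaSh.idealSect (Δ ≫ c).ker U.1 ((kernel.ι α).app U.1 s) →
        ψ.app U.1 s = OmegaSh.strSect X ((Δ ≫ c) ⁻¹ᵁ U.1)
          (InfAut29.L ((Δ ≫ c).app U.1).hom hq (coordHom n l) z) := by
  let alg : ∀ U : Z.affineOpens, Algebra (artW k k n) Γ(Z, U.1) := fun U => (strMap g U.1).toAlgebra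
  have hflat : ∀ U : Z.affineOpens, Module.Flat (artW k k n) Γ(Z, U.1) := fun U => flat_strMap g U.2
  have hq₀ : ∀ U : Z.affineOpens, (maximalIdeal (artW k k n)).map (algebraMap (artW k k n) Γ(Z, U.1)) ≤
      RingHom.ker ((Δ ≫ c).app U.1).hom := fun U =>
    Ideal.map_le_iff_le_comap.2 fun a ha => app_gamma_ker hP a ha
  let τ : ∀ U : Z.Opens, Γ(kernel α, U) →+ Γ(Z, U) := fun U =>
    (OmegaSh.idealSect (Δ ≫ c).ker U).comp ((kernel.ι α).app U).hom
  have hτm : ∀ (U : Z.affineOpens) s, τ U.1 s ∈ (maximalIdeal (artW k k n)).map (algebraMap (artW k k n) Γ(Z, U.1)) := by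
    intro U s
    refine (ker_i_app (artW k k n).res_surjective hP U.2).le ?_
    rw [RingHom.mem_ker]
    refine (hα U.1 _).symm.trans ?_
    rw [Coherent.kernel_ι_app_zero, map_zero]
  have hτsmul : ∀ (U : Z.Opens) (r : Γ(Z, U)) s, τ U (r • s) = r * τ U s := fun U r s => by
    show OmegaSh.idealSect _ U ((kernel.ι α).app U (r • s)) = _
    rw [Scheme.Modules.Hom.app_smul]
    exact Omega15.idealSect_smul _ _ _ _
  have hτres : ∀ {U V : Z.Opens} (h : U ≤ V) s,
      τ U ((kernel α).presheaf.map (homOfLE h).op s) = Z.presheaf.map (homOfLE h).op (τ V s) := fun h s => by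
    show OmegaSh.idealSect _ _ _ = Z.presheaf.map _ (OmegaSh.idealSect _ _ _)
    rw [← OmegaLib.idealSect_map]
    exact congrArg _ (congr($((kernel.ι α).mapPresheaf.naturality (homOfLE h).op) s))
  choose ζ hζ using fun (U : Z.affineOpens) s => range_mulMap _ Γ(Z, U.1) _ (hτm U s)
  have huniq : ∀ (U : Z.affineOpens) s z, mulMap _ Γ(Z, U.1) z = τ U.1 s → ζ U s = z := fun U s z hz =>
    mulMap_injective (A := artW k k n) _ Γ(Z, U.1) ((hζ U s).trans hz.symm)
  let f : ∀ U : Z.affineOpens, Γ(kernel α, U.1) →+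
      Γ((Scheme.Modules.pushforward c).obj ((Scheme.Modules.pushforward Δ).obj (Coh.structureModule X)), U.1) := fun U =>
    AddMonoidHom.mk' (fun s => OmegaSh.strSect X ((Δ ≫ c) ⁻¹ᵁ U.1)
        (InfAut29.L ((Δ ≫ c).app U.1).hom (hq₀ U) (coordHom n l) (ζ U s)))
      fun s t => by
        rw [huniq U (s + t) (ζ U s + ζ U t) (by rw [map_add, hζ, hζ, map_add]), map_add, map_add]
  have hnat : ∀ (U V : Z.affineOpens) (h : U.1 ≤ V.1) (s : Γ(kernel α, V.1)),
      f U ((kernel α).presheaf.map (homOfLE h).op s) =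
        ((Scheme.Modules.pushforward c).obj ((Scheme.Modules.pushforward Δ).obj (Coh.structureModule X))).presheaf.map (homOfLE h).op (f V s) := by
    intro U V h s
    let φ : Γ(Z, V.1) →ₐ[artW k k n] Γ(Z, U.1) :=
      { (Z.presheaf.map (homOfLE h).op).hom with commutes' := fun a => res_strMap g h a }
    obtain ⟨z', h1, h2⟩ := InfAut29.natural ((Δ ≫ c).app V.1).hom (hq₀ V) (coordHom n l) ((Δ ≫ c).app U.1).hom (hq₀ U)
      φ (X.presheaf.map (homOfLE ((Δ ≫ c).preimage_mono h)).op).hom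
      (fun b => (ConcreteCategory.congr_hom ((Δ ≫ c).naturality (homOfLE h).op) b).symm) (ζ V s)
    show OmegaSh.strSect X _ (InfAut29.L _ _ _ (ζ U _)) = _
    rw [huniq U _ z' (by rw [h1, hζ, hτres h]; rfl), h2]
    rfl
  have hlin : ∀ (U : Z.affineOpens) (r : Γ(Z, U.1)) (s : Γ(kernel α, U.1)), f U (r • s) = r • f U s := by
    intro U r s
    show OmegaSh.strSect X _ (InfAut29.L _ _ _ (ζ U (r • s))) = _
    rw [huniq U _ (r • ζ U s) (by rw [map_smul, hζ, hτsmul, smul_eq_mul]), InfAut29.L_smul]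
    show _ = Δ.app (c ⁻¹ᵁ U.1) (c.app U.1 r) • OmegaSh.strSect X (Δ ⁻¹ᵁ (c ⁻¹ᵁ U.1)) _
    rw [← CommRingCat.comp_apply, ← Scheme.Hom.comp_app]
    rfl
  obtain ⟨ψ, hψ⟩ := exists_hom_of_basis (F := kernel α)
    (G := (Scheme.Modules.pushforward c).obj ((Scheme.Modules.pushforward Δ).obj (Coh.structureModule X)))
    (fun U : Z.affineOpens => U.1)
    (by rw [show Set.range (fun U : Z.affineOpens => U.1) = Z.affineOpens from Subtype.range_val]; exact Z.isBasis_affineOpens)
    f hnat hlin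
  refine ⟨ψ, fun U hq s z hz => ?_⟩
  rw [hψ U s]
  show OmegaSh.strSect X _ (InfAut29.L _ _ _ (ζ U s)) = _
  rw [huniq U s z hz]

end Groth.Agent.DefFin29
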