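import Groth.Agent.DefFin29.Functional
import Groth.Agent.Et18.DefGlue

/-!
# A linear combination of first order deformations of a proper scheme carries a derivation
-/

set_option autoImplicit false
set_option backward.isDefEq.respectTransparency.types false
set_option backward.isDefEq.respectTransparency false
set_option linter.style.haveILetI false
set_option synthInstance.maxHeartbeats 100000

universe u

open CategoryTheory CategoryTheory.Limits AlgebraicGeometry TopologicalSpace Opposite IsLocalRing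
open Groth.Agent.OmegaLib Groth.Agent.ArtGlobal29 Groth.Agent.InfAut29 Groth.Agent.DeformSqZero
open ArtFun Groth.Agent.SemiExt29
open scoped TensorProduct

noncomputable section

namespace Groth.Agent.DefFin29

variable {k : Type u} [Field k]

/-- The linear form with given coefficients. -/
def dot {n : ℕ} (l : Fin n → k) : (Fin n → k) →ₗ[k] k := ∑ j, l j • LinearMap.proj j

theorem dot_add {n : ℕ} (l l' : Fin n → k) : dot (l + l') = dot l + dot l' := by
  simp [dot, add_smul, Finset.sum_add_distrib]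

theorem dot_smul {n : ℕ} (a : k) (l : Fin n → k) : dot (a • l) = a • dot l := by
  simp [dot, smul_smul, Finset.smul_sum]

theorem coordHom_add (n : ℕ) (l l' : (Fin n → k) →ₗ[k] k) : coordHom n (l + l') = coordHom n l + coordHom n l' :=
  LinearMap.ext fun a => by
    show Ideal.Quotient.mk _ (algebraMap k _ (l _ + l' _)) = _
    rw [map_add, map_add]
    rfl

theorem coordHom_smul (n : ℕ) (a : k) (l : (Fin n → k) →ₗ[k] k) :
    coordHom n (a • l) = algebraMap k (artW k k n) a • coordHom n l :=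
  LinearMap.ext fun b => by
    show Ideal.Quotient.mk _ (algebraMap k _ (a * l _)) = _
    rw [map_mul, map_mul, LinearMap.smul_apply, Algebra.smul_def, Ideal.Quotient.algebraMap_eq]
    rfl

section LinL

variable {A : Type u} [CommRing A] [IsLocalRing A] {B B₀ : Type u} [CommRing B] [Algebra A B] [CommRing B₀]
  (q : B →+* B₀) (hq : (maximalIdeal A).map (algebraMap A B) ≤ RingHom.ker q) {J : Ideal A}

theorem L_add_lam (lam lam' : ↥J →ₗ[A] A ⧸ maximalIdeal A) (z : B ⊗[A] ↥J) :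
    InfAut29.L q hq (lam + lam') z = InfAut29.L q hq lam z + InfAut29.L q hq lam' z := by
  induction z using TensorProduct.induction_on with
  | zero => simp
  | add x y hx hy => rw [map_add, map_add, map_add, hx, hy]; ring
  | tmul b j => rw [L_tmul, L_tmul, L_tmul, LinearMap.add_apply, map_add, mul_add]

theorem L_smul_lam (a : A) (lam : ↥J →ₗ[A] A ⧸ maximalIdeal A) (z : B ⊗[A] ↥J) :
    InfAut29.L q hq (a • lam) z = q (algebraMap A B a) * InfAut29.L q hq lam z := by
  induction z using TensorProduct.induction_on with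
  | zero => simp
  | add x y hx hy => rw [map_add, map_add, hx, hy, mul_add]
  | tmul b j =>
    rw [L_tmul, L_tmul, LinearMap.smul_apply, Algebra.smul_def, map_mul, Ideal.Quotient.algebraMap_eq, rho_mk]
    ring

end LinL

/-- Morphisms of modules agreeing on affine opens are equal. -/
theorem hom_ext_affine {Z : Scheme.{u}} {F G : Z.Modules} (φ ψ : F ⟶ G)
    (h : ∀ (U : Z.affineOpens) (s : Γ(F, U.1)), φ.app U.1 s = ψ.app U.1 s) : φ = ψ := by
  refine Scheme.Modules.hom_ext _ _ fun W => ?_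
  ext s
  refine section_ext fun y hy => ?_
  obtain ⟨V, hV, hyV, hVW⟩ := Opens.isBasis_iff_nbhd.mp Z.isBasis_affineOpens hy
  refine ⟨V, hVW, hyV, ?_⟩
  exact (congr($(φ.mapPresheaf.naturality (homOfLE hVW).op) s)).symm.trans
    ((h ⟨V, hV⟩ _).trans congr($(ψ.mapPresheaf.naturality (homOfLE hVW).op) s))

variable {X : Scheme.{u}} {x : X ⟶ Spec (CommRingCat.of k)}

/-- Derivations on a first order deformation with prescribed values on the maximal ideal. -/
def IsTwist {n : ℕ} (ξ : DefSch X x (artW k k n)) (l : Fin n → k)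
    (δ : ∀ U : ξ.total.affineOpens, Γ(ξ.total, U.1) →+ Γ(X, ξ.i ⁻¹ᵁ U.1)) : Prop :=
  (∀ (U U' : ξ.total.affineOpens) (h : U.1 ≤ U'.1) (s : Γ(ξ.total, U'.1)),
      δ U (ξ.total.presheaf.map (homOfLE h).op s) =
        X.presheaf.map (homOfLE (ξ.i.preimage_mono h)).op (δ U' s)) ∧
    (∀ (U : ξ.total.affineOpens) (s t : Γ(ξ.total, U.1)),
      δ U (s * t) = ξ.i.app U.1 s * δ U t + ξ.i.app U.1 t * δ U s) ∧
    ∀ (U : ξ.total.affineOpens) (a : artW k k n),
      δ U (strMap ξ.f U.1 a) = strMap x (ξ.i ⁻¹ᵁ U.1) (dot l (TrivSqZeroExt.snd a))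

theorem exists_twist [IsProper x] : ∃ d : ℕ, ∀ n, d < n → ∀ ξ : DefSch X x (artW k k n),
    ∃ l : Fin n → k, l ≠ 0 ∧ ∃ δ, IsTwist ξ l δ := by
  let P := pullback x x
  let Δ : X ⟶ P := pullback.diagonal x
  haveI : IsClosedImmersion Δ := IsSeparated.isClosedImmersion_diagonal (f := x)
  let pP : P ⟶ Spec (CommRingCat.of k) := pullback.fst x x ≫ x
  haveI : IsProper pP := inferInstance
  letI : P.Over (Spec (CommRingCat.of k)) := ⟨pP⟩
  obtain ⟨d, hd⟩ := exists_bound (Δ := Δ) pP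
  refine ⟨d, fun n hn ξ => ?_⟩
  let A := artW k k n
  let σ : ξ.total ⟶ Spec (CommRingCat.of k) := ξ.f ≫ Art.specMap (Art.ofBase A)
  have hσ : ξ.i ≫ σ = x := by
    show ξ.i ≫ ξ.f ≫ Art.specMap (Art.ofBase A) = x
    rw [reassoc_of% ξ.i_f, Art.specRes_comp]
    exact Art.comp_specRes_base x
  let Z := pullback σ x
  let c : P ⟶ Z := pullback.map x x σ x ξ.i (𝟙 X) (𝟙 _) (by rw [hσ, Category.comp_id]) (by simp)
  let g : Z ⟶ Spec (CommRingCat.of A) := pullback.fst σ x ≫ ξ.f
  have hc₁ : c ≫ pullback.fst σ x = pullback.fst x x ≫ ξ.i := pullback.lift_fst _ _ _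
  have hc₂ : c ≫ pullback.snd σ x = pullback.snd x x := by
    show pullback.map _ _ _ _ _ _ _ _ _ ≫ _ = _
    rw [pullback.lift_snd, Category.comp_id]
  have hsq : IsPullback (pullback.fst x x) c ξ.i (pullback.fst σ x) :=
    IsPullback.of_bot (by rw [hc₂, hσ]; exact IsPullback.of_hasPullback x x) hc₁.symm (IsPullback.of_hasPullback σ x)
  haveI : IsClosedImmersion ξ.i := InfAut29.isClosedImmersion_i A.res_surjective ξ.isPullback
  haveI : IsClosedImmersion c := MorphismProperty.of_isPullback hsq ‹IsClosedImmersion ξ.i›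
  have hP : IsPullback c pP g (Art.specRes A) := hsq.flip.paste_vert ξ.isPullback
  haveI : Flat x := Et18.DefGlue.flat_x
  haveI : Flat g := inferInstanceAs (Flat (pullback.fst σ x ≫ ξ.f))
  let γ := Δ ≫ c
  have hγ₁ : γ ≫ pullback.fst σ x = ξ.i := by
    simp only [γ, Category.assoc, hc₁]
    rw [pullback.diagonal_fst_assoc]
  have hγ₂ : γ ≫ pullback.snd σ x = 𝟙 X := by
    simp only [γ, Category.assoc, hc₂]
    exact pullback.diagonal_snd x
  obtain ⟨α, hα⟩ := Omega15.exists_idealPull c Δ.ker γ.ker (Scheme.IdealSheafData.map_ker Δ c).ge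
  have hψ := fun l : Fin n → k => exists_psi (g := g) hP hα (dot l)
  choose ψ hψ using hψ
  let alg : ∀ U : Z.affineOpens, Algebra A Γ(Z, U.1) := fun U => (strMap g U.1).toAlgebra
  have hq₀ : ∀ U : Z.affineOpens, (maximalIdeal A).map (algebraMap A Γ(Z, U.1)) ≤ RingHom.ker (γ.app U.1).hom :=
    fun U => Ideal.map_le_iff_le_comap.2 fun a ha => app_gamma_ker hP a ha
  have hrep : ∀ (U : Z.affineOpens) (s : Γ(kernel α, U.1)), ∃ z, mulMap (maximalIdeal A) Γ(Z, U.1) z =
      OmegaSh.idealSect γ.ker U.1 ((kernel.ι α).app U.1 s) := by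
    intro U s
    refine range_mulMap _ _ _ ((ker_i_app A.res_surjective hP U.2).le ?_)
    rw [RingHom.mem_ker]
    refine (hα U.1 _).symm.trans ?_
    rw [Coherent.kernel_ι_app_zero, map_zero]
  obtain ⟨l, hl, R, hR⟩ := hd Z c α hα n hn ψ
    (fun l l' => hom_ext_affine _ _ fun U s => by
      obtain ⟨z, hz⟩ := hrep U s
      rw [Scheme.Modules.Hom.add_app]
      refine (hψ (l + l') U (hq₀ U) s z hz).trans ?_
      rw [dot_add, coordHom_add, L_add_lam, map_add]
      exact (congrArg₂ (· + ·) (hψ l U (hq₀ U) s z hz) (hψ l' U (hq₀ U) s z hz)).symm)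
    (fun a l => hom_ext_affine _ _ fun U s => by
      obtain ⟨z, hz⟩ := hrep U s
      refine (hψ (a • l) U (hq₀ U) s z hz).trans ?_
      rw [dot_smul, coordHom_smul, L_smul_lam]
      refine Eq.trans ?_ (KLin.smul_app_apply a (𝟙 ((Scheme.Modules.pushforward Δ).obj (Coh.structureModule X)))
        (c ⁻¹ᵁ U.1) ((ψ l).app U.1 s)).symm
      show OmegaSh.strSect X _ (γ.app U.1 (strMap g U.1 (algebraMap k A a)) * _) =
        Δ.app (c ⁻¹ᵁ U.1) (P.presheaf.map (homOfLE le_top).op (Coh.toGlobal pP a)) •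
          (show Γ(Coh.structureModule X, Δ ⁻¹ᵁ (c ⁻¹ᵁ U.1)) from (ψ l).app U.1 s)
      have e1 : γ.app U.1 (strMap g U.1 (algebraMap k A a)) = Δ.app (c ⁻¹ᵁ U.1) (strMap pP (c ⁻¹ᵁ U.1) a) :=
        (ConcreteCategory.congr_hom (Scheme.Hom.comp_app Δ c U.1) _).trans (congrArg (Δ.app (c ⁻¹ᵁ U.1))
          ((i_app_strMap A.res_surjective hP U.1 _).trans (congrArg (strMap pP (c ⁻¹ᵁ U.1)) (AlgHom.commutes A.res a))))
      rw [hψ l U (hq₀ U) s z hz, e1]
      rfl)
  -- the section attached to a function on the total space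
  let O : ξ.total.Opens → Z.Opens := fun U => pullback.fst σ x ⁻¹ᵁ U ⊓ pullback.snd σ x ⁻¹ᵁ (ξ.i ⁻¹ᵁ U)
  have eO : ∀ U, ξ.i ⁻¹ᵁ U ≤ γ ⁻¹ᵁ O U := fun U y hy => by
    refine ⟨?_, ?_⟩
    · show (γ ≫ pullback.fst σ x) y ∈ U
      rw [hγ₁]; exact hy
    · show (γ ≫ pullback.snd σ x) y ∈ ξ.i ⁻¹ᵁ U
      rw [hγ₂]; exact hy
  have eO' : ∀ U, γ ⁻¹ᵁ O U ≤ ξ.i ⁻¹ᵁ U := fun U y hy => by
    show ξ.i y ∈ U
    rw [← hγ₁]; exact hy.1
  let j : ∀ U, Γ(ξ.total, U) → Γ(Z, O U) := fun U s =>
    (pullback.fst σ x).appLE U (O U) inf_le_left s -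
      (pullback.snd σ x).appLE (ξ.i ⁻¹ᵁ U) (O U) inf_le_right (ξ.i.app U s)
  have hγj₁ : ∀ U (s : Γ(ξ.total, U)), γ.app (O U) ((pullback.fst σ x).appLE U (O U) inf_le_left s) =
      X.presheaf.map (homOfLE (eO' U)).op (ξ.i.app U s) := fun U s => by
    rw [Scheme.Hom.app_eq_appLE, ← CommRingCat.comp_apply, Scheme.Hom.appLE_comp_appLE,
      ← CommRingCat.comp_apply (ξ.i.app U)]
    simp only [hγ₁]
    rfl
  have hγj₂ : ∀ U (t : Γ(X, ξ.i ⁻¹ᵁ U)),
      γ.app (O U) ((pullback.snd σ x).appLE (ξ.i ⁻¹ᵁ U) (O U) inf_le_right t) =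
        X.presheaf.map (homOfLE (eO' U)).op t := fun U t => by
    rw [Scheme.Hom.app_eq_appLE, ← CommRingCat.comp_apply, Scheme.Hom.appLE_comp_appLE]
    simp only [hγ₂]
    rw [Scheme.Hom.appLE, Scheme.Hom.id_app]
    erw [Category.id_comp]
  have hj0 : ∀ U s, γ.app (O U) (j U s) = 0 := fun U s => by
    rw [map_sub, hγj₁, hγj₂, sub_self]
  choose S hS using fun U s => exists_mem_of_app_eq_zero γ (hj0 U s)
  let D : ∀ U, Γ(ξ.total, U) → Γ(X, ξ.i ⁻¹ᵁ U) := fun U s =>
    X.presheaf.map (homOfLE (eO U)).op (OmegaSh.fnSect X (γ ⁻¹ᵁ O U) (R.app (O U) (S U s)))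
  have hSuniq : ∀ U s (S' : Γ(ClSub.idealMod γ.ker, O U)), OmegaSh.idealSect γ.ker (O U) S' = j U s → S U s = S' :=
    fun U s S' h => idealSect_injective _ _ ((hS U s).trans h.symm)
  have hDadd : ∀ U s t, D U (s + t) = D U s + D U t := fun U s t => by
    show X.presheaf.map _ _ = X.presheaf.map _ _ + X.presheaf.map _ _
    rw [hSuniq U (s + t) (S U s + S U t) (by rw [map_add, hS, hS]; simp only [j, map_add]; ring), map_add]
    exact (congrArg _ (map_add (OmegaSh.fnSect X (γ ⁻¹ᵁ O U)) _ _)).trans (map_add _ _ _)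
  have hRsmul : ∀ U (r : Γ(Z, U)) (m : Γ(ClSub.idealMod γ.ker, U)),
      OmegaSh.fnSect X (γ ⁻¹ᵁ U) (R.app U (r • m)) = γ.app U r * OmegaSh.fnSect X (γ ⁻¹ᵁ U) (R.app U m) := fun U r m => by
    rw [Scheme.Modules.Hom.app_smul]
    show Δ.app (c ⁻¹ᵁ U) (c.app U r) * _ = _
    rw [← CommRingCat.comp_apply, ← Scheme.Hom.comp_app]
    rfl
  have hDmul : ∀ U s t, D U (s * t) = ξ.i.app U s * D U t + ξ.i.app U t * D U s := by
    intro U s t
    show X.presheaf.map _ _ = _ * X.presheaf.map _ _ + _ * X.presheaf.map _ _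
    rw [hSuniq U (s * t) ((pullback.fst σ x).appLE U (O U) inf_le_left s • S U t +
      (pullback.snd σ x).appLE (ξ.i ⁻¹ᵁ U) (O U) inf_le_right (ξ.i.app U t) • S U s) ?_]
    · have hback : ∀ v, X.presheaf.map (homOfLE (eO U)).op (X.presheaf.map (homOfLE (eO' U)).op v) = v := fun v => by
        rw [← CommRingCat.comp_apply, ← Functor.map_comp]
        exact ConcreteCategory.congr_hom (X.presheaf.map_id _) v
      rw [map_add, map_add, hRsmul, hRsmul, hγj₁, hγj₂, map_add, map_mul, map_mul, hback, hback]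
    · rw [map_add, Omega15.idealSect_smul, Omega15.idealSect_smul, hS, hS]
      simp only [j, map_mul]
      ring
  have hDnat : ∀ U V (h : U ≤ V) (s : Γ(ξ.total, V)),
      D U (ξ.total.presheaf.map (homOfLE h).op s) = X.presheaf.map (homOfLE (ξ.i.preimage_mono h)).op (D V s) := by
    intro U V h s
    have hO : O U ≤ O V := inf_le_inf ((pullback.fst σ x).preimage_mono h) ((pullback.snd σ x).preimage_mono (ξ.i.preimage_mono h))
    show X.presheaf.map _ _ = X.presheaf.map _ (X.presheaf.map _ _)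
    rw [hSuniq U _ ((ClSub.idealMod γ.ker).presheaf.map (homOfLE hO).op (S V s)) ?_]
    · have e := congr($(R.mapPresheaf.naturality (homOfLE hO).op) (S V s))
      refine (congrArg (fun w => X.presheaf.map (homOfLE (eO U)).op (OmegaSh.fnSect X (γ ⁻¹ᵁ O U) w)) e).trans ?_
      show X.presheaf.map _ (X.presheaf.map (homOfLE (γ.preimage_mono hO)).op _) = _
      rw [← CommRingCat.comp_apply, ← CommRingCat.comp_apply, ← Functor.map_comp, ← Functor.map_comp]
      rfl
    · rw [idealSect_map, hS]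
      simp only [j, map_sub]
      congr 1
      · exact (ConcreteCategory.congr_hom (Scheme.Hom.appLE_map (pullback.fst σ x) _ _) s).trans
          (ConcreteCategory.congr_hom (Scheme.Hom.map_appLE (pullback.fst σ x) _ _) s).symm
      · rw [show ξ.i.app U (ξ.total.presheaf.map (homOfLE h).op s) =
            X.presheaf.map (homOfLE (ξ.i.preimage_mono h)).op (ξ.i.app V s) from
          ConcreteCategory.congr_hom (ξ.i.naturality (homOfLE h).op) s]
        exact (ConcreteCategory.congr_hom (Scheme.Hom.appLE_map (pullback.snd σ x) _ _) _).trans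
          (ConcreteCategory.congr_hom (Scheme.Hom.map_appLE (pullback.snd σ x) _ _) _).symm
  refine ⟨l, hl, fun U => AddMonoidHom.mk' (D U.1) (hDadd U.1), fun U V h s => hDnat _ _ h s,
    fun U s t => hDmul _ s t, fun U a => ?_⟩
  -- values on the coefficients
  show D U.1 (strMap ξ.f U.1 a) = _
  let m : A := a - algebraMap k A (A.res a)
  have hm : m ∈ maximalIdeal A := mem_max_artW.2 (by rw [map_sub, AlgHom.commutes]; exact sub_self _)
  have hj : j U.1 (strMap ξ.f U.1 a) = strMap g (O U.1) m := by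
    show _ - _ = _
    rw [map_sub, i_app_strMap A.res_surjective ξ.isPullback]
    congr 1
    · show (ξ.f.appLE ⊤ U.1 _ ≫ (pullback.fst σ x).appLE U.1 (O U.1) inf_le_left) _ = _
      rw [Scheme.Hom.appLE_comp_appLE]
      rfl
    · show (x.appLE ⊤ _ _ ≫ (pullback.snd σ x).appLE _ (O U.1) inf_le_right) _ = _
      rw [Scheme.Hom.appLE_comp_appLE]
      have e : pullback.snd σ x ≫ x = g ≫ Spec.map (CommRingCat.ofHom (algebraMap k A)) := by
        rw [← pullback.condition]
        exact (Category.assoc (pullback.fst σ x) ξ.f (Art.specMap (Art.ofBase A))).symm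
      simp only [e]
      exact strMap_comp (algebraMap k A) g (O U.1) (A.res a)
  have hα0 : α.app (O U.1) (S U.1 (strMap ξ.f U.1 a)) = 0 := by
    refine idealSect_injective Δ.ker (c ⁻¹ᵁ O U.1) ?_
    rw [hα, hS, hj, appKer hP m hm]
    exact (map_zero (OmegaSh.idealSect Δ.ker (c ⁻¹ᵁ O U.1))).symm
  obtain ⟨kk, hkk⟩ := Coherent.kernel_sections_exact α _ hα0
  have hval : (ψ l).app (O U.1) kk = OmegaSh.strSect X (γ ⁻¹ᵁ O U.1)
      (strMap x (γ ⁻¹ᵁ O U.1) (dot l (TrivSqZeroExt.snd m))) := by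
    refine section_ext (F := (Scheme.Modules.pushforward c).obj ((Scheme.Modules.pushforward Δ).obj (Coh.structureModule X)))
      fun y hy => ?_
    obtain ⟨V, hV, hyV, hVO⟩ := Opens.isBasis_iff_nbhd.mp Z.isBasis_affineOpens hy
    refine ⟨V, hVO, hyV, ?_⟩
    refine (congr($((ψ l).mapPresheaf.naturality (homOfLE hVO).op) kk)).symm.trans ?_
    refine (hψ l ⟨V, hV⟩ (hq₀ ⟨V, hV⟩) _ ((1 : Γ(Z, V)) ⊗ₜ ⟨m, hm⟩) ?_).trans ?_
    · rw [mulMap_tmul, mul_one]
      refine Eq.trans ?_ (congrArg (OmegaSh.idealSect γ.ker V)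
        congr($((kernel.ι α).mapPresheaf.naturality (homOfLE hVO).op) kk)).symm
      show strMap g V m = OmegaSh.idealSect γ.ker V ((ClSub.idealMod γ.ker).presheaf.map _ _)
      rw [idealSect_map]
      refine Eq.trans ?_ (congrArg (Z.presheaf.map (homOfLE hVO).op)
        ((congrArg (OmegaSh.idealSect γ.ker (O U.1)) hkk).trans ((hS _ _).trans hj))).symm
      rw [res_strMap]
    · rw [L_tmul, map_one, one_mul]
      show OmegaSh.strSect X _ _ = X.presheaf.map (homOfLE (γ.preimage_mono hVO)).op (strMap x _ _)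
      rw [res_strMap]
      show OmegaSh.strSect X (γ ⁻¹ᵁ V) (rho _ _ (Ideal.Quotient.mk _ (algebraMap k A (dot l (TrivSqZeroExt.snd m))))) =
        OmegaSh.strSect X (γ ⁻¹ᵁ V) (strMap x (γ ⁻¹ᵁ V) (dot l (TrivSqZeroExt.snd m)))
      congr 1
      rw [rho_mk]
      show γ.app V (strMap g V _) = _
      rw [Scheme.Hom.comp_app, CommRingCat.comp_apply, i_app_strMap A.res_surjective hP]
      refine Eq.trans (congrArg (Δ.app (c ⁻¹ᵁ V)) (congrArg (strMap pP (c ⁻¹ᵁ V))
        (AlgHom.commutes A.res (dot l (TrivSqZeroExt.snd m))))) ?_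
      show (pP.appLE ⊤ (c ⁻¹ᵁ V) _ ≫ Δ.app (c ⁻¹ᵁ V)) _ = _
      rw [Scheme.Hom.app_eq_appLE, Scheme.Hom.appLE_comp_appLE]
      simp only [pP, Δ, pullback.diagonal_fst_assoc]
      rfl
  show X.presheaf.map _ (OmegaSh.fnSect X _ (R.app (O U.1) (S U.1 _))) = _
  rw [← hkk, show R.app (O U.1) ((kernel.ι α).app (O U.1) kk) = (ψ l).app (O U.1) kk from
    congr(($hR).app (O U.1) kk), hval]
  show X.presheaf.map _ (strMap x _ _) = _
  rw [res_strMap]
  congr 2
  show TrivSqZeroExt.snd (a - algebraMap k A (A.res a)) = TrivSqZeroExt.snd a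
  rw [TrivSqZeroExt.snd_sub]
  exact sub_eq_self.2 (TrivSqZeroExt.snd_inl _ _)

end Groth.Agent.DefFin29
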