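import Groth.Agent.DefFin29.Derivation

/-!
# A twist derivation trivialises the combination of first order deformations
-/

set_option autoImplicit false
set_option backward.isDefEq.respectTransparency.types false
set_option backward.isDefEq.respectTransparency false
set_option linter.style.haveILetI false

universe u

open CategoryTheory CategoryTheory.Limits AlgebraicGeometry TopologicalSpace Opposite IsLocalRing
open Groth.Agent.OmegaLib Groth.Agent.ArtGlobal29 Groth.Agent.InfAut29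
open ArtFun Groth.Agent.SemiExt29

noncomputable section

namespace Groth.Agent.DefFin29

variable {k : Type u} [Field k] {X : Scheme.{u}} {x : X ⟶ Spec (CommRingCat.of k)}

/-- `k[W] → k[ε]` along a linear form. -/
def combPr {n : ℕ} (l : Fin n → k) : artW k k n ⟶ Art.dual k k :=
  ⟨(TrivSqZeroExt.map (dot l)).restrictScalars k, AlgHom.ext fun z => TrivSqZeroExt.fst_map _ z⟩

theorem snd_combPr {n : ℕ} (l : Fin n → k) (a : artW k k n) :
    TrivSqZeroExt.snd (combPr l a : DualNumber k) = dot l (TrivSqZeroExt.snd a) :=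
  TrivSqZeroExt.snd_map _ a

/-- Glue morphisms given on an indexed open cover by ring maps, compatible for a refining family. -/
theorem exists_glue_index {T Y : Scheme.{u}} {ι : Type u} (W : ι → T.Opens) (V : ι → Y.affineOpens)
    (hcov : IsOpenCover W) (hWV : ∀ a b t, t ∈ W a → t ∈ W b →
      ∃ e, t ∈ W e ∧ (W e ≤ W a ∧ (V e).1 ≤ (V a).1) ∧ (W e ≤ W b ∧ (V e).1 ≤ (V b).1))
    (σ : ∀ a, Γ(Y, (V a).1) ⟶ Γ(T, W a))
    (hσ : ∀ a b (h₁ : W a ≤ W b) (h₂ : (V a).1 ≤ (V b).1),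
      σ b ≫ T.presheaf.map (homOfLE h₁).op = Y.presheaf.map (homOfLE h₂).op ≫ σ a) :
    ∃ G : T ⟶ Y, ∀ a, (W a).ι ≫ G = (W a).toSpecΓ ≫ Spec.map (σ a) ≫ (V a).2.fromSpec := by
  let ch := fun a => (W a).toSpecΓ ≫ Spec.map (σ a) ≫ (V a).2.fromSpec
  have hres : ∀ a b (h₁ : W a ≤ W b) (h₂ : (V a).1 ≤ (V b).1), T.homOfLE h₁ ≫ ch b = ch a := fun a b h₁ h₂ => by
    simp only [ch]
    rw [← Category.assoc, ← Scheme.Opens.toSpecΓ_SpecMap_presheaf_map, Category.assoc, ← Spec.map_comp_assoc,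
      hσ a b h₁ h₂, Spec.map_comp_assoc, (V b).2.map_fromSpec (V a).2 (homOfLE h₂).op]
  let 𝒰 := T.openCoverOfIsOpenCover _ hcov
  refine ⟨𝒰.glueMorphisms ch fun a b => ?_, fun a => 𝒰.ι_glueMorphisms _ _ a⟩
  have key : ∀ (R : Scheme.{u}) (p : R ⟶ (W a).toScheme) (q : R ⟶ (W b).toScheme),
      p ≫ (W a).ι = q ≫ (W b).ι → p ≫ ch a = q ≫ ch b := by
    intro R p q hpq
    refine Scheme.hom_ext_of_forall _ _ fun z => ?_
    obtain ⟨e, hze, ⟨he₁, he₂⟩, ⟨he₃, he₄⟩⟩ := hWV a b ((p ≫ (W a).ι) z) (p z).2 (by rw [hpq]; exact (q z).2)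
    refine ⟨(p ≫ (W a).ι) ⁻¹ᵁ W e, hze, ?_⟩
    let c : ((p ≫ (W a).ι) ⁻¹ᵁ W e).toScheme ⟶ (W e).toScheme := (p ≫ (W a).ι).resLE _ _ le_rfl
    have hca : ((p ≫ (W a).ι) ⁻¹ᵁ W e).ι ≫ p = c ≫ T.homOfLE he₁ := by
      rw [← cancel_mono (W a).ι]; simp [c]
    have hcb : ((p ≫ (W a).ι) ⁻¹ᵁ W e).ι ≫ q = c ≫ T.homOfLE he₃ := by
      rw [← cancel_mono (W b).ι]; simp [c, hpq]
    rw [reassoc_of% hca, reassoc_of% hcb, hres e a he₁ he₂, hres e b he₃ he₄]
  exact key _ _ _ pullback.condition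

theorem trivial_of_twist {n : ℕ} {ξ : DefSch X x (artW k k n)} {l : Fin n → k}
    {δ : ∀ U : ξ.total.affineOpens, Γ(ξ.total, U.1) →+ Γ(X, ξ.i ⁻¹ᵁ U.1)} (hδ : IsTwist ξ l δ) :
    Nonempty ((ξ.baseChange (combPr l)).Iso (DefSch.trivial X x Et18.DefGlue.flat_x (Art.dual k k))) := by
  obtain ⟨hnat, hmul, hval⟩ := hδ
  let η := ξ.baseChange (combPr l)
  let pr : η.total ⟶ ξ.total := pullback.fst ξ.f (Art.specMap (combPr l))
  have hipr : η.i ≫ pr = ξ.i := DefSch.baseChange_i_fst ξ _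
  have hprf : pr ≫ ξ.f = η.f ≫ Art.specMap (combPr l) := pullback.condition
  have hprc : ∀ (U : ξ.total.Opens) a, pr.app U (strMap ξ.f U a) = strMap η.f (pr ⁻¹ᵁ U) (combPr l a) := by
    intro U a
    rw [Scheme.Hom.app_eq_appLE]
    show (ξ.f.appLE ⊤ U _ ≫ pr.appLE U (pr ⁻¹ᵁ U) _) ((Scheme.ΓSpecIso (CommRingCat.of (artW k k n))).inv a) = _
    rw [Scheme.Hom.appLE_comp_appLE]
    refine Eq.trans ?_ (strMap_comp (combPr l).toAlgHom.toRingHom η.f (pr ⁻¹ᵁ U) a)
    simp only [hprf]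
    rfl
  let ε : ∀ W : η.total.Opens, Γ(η.total, W) := fun W =>
    strMap η.f W (show Art.dual k k from (DualNumber.eps : DualNumber k))
  have hεm : ∀ (W : η.total.Opens) (b : Art.dual k k), (Art.dual k k).res b = 0 → ε W * strMap η.f W b = 0 := by
    intro W b hb
    show strMap η.f W _ * strMap η.f W b = 0
    rw [← map_mul]
    refine (congrArg (strMap η.f W) (?_ : (DualNumber.eps : DualNumber k) * (show DualNumber k from b) = 0)).trans (map_zero _)
    exact TrivSqZeroExt.ext (by simp) (by simp; exact hb)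
  let τ : ∀ U : ξ.total.affineOpens, Γ(ξ.total, U.1) →+ Γ(η.total, pr ⁻¹ᵁ U.1) := fun U => (pr.app U.1).hom.toAddMonoidHom
  -- kill the kernel of the restriction
  have hεker : ∀ (U : ξ.total.affineOpens) s, ξ.i.app U.1 s = 0 → ε (pr ⁻¹ᵁ U.1) * pr.app U.1 s = 0 := by
    intro U s hs
    have hs' : s ∈ (maximalIdeal (artW k k n)).map (strMap ξ.f U.1) :=
      (ker_i_app (artW k k n).res_surjective ξ.isPullback U.2).le hs
    refine Submodule.span_induction (p := fun y _ => ε (pr ⁻¹ᵁ U.1) * pr.app U.1 y = 0) ?_ (by simp) ?_ ?_ hs'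
    · rintro _ ⟨a, ha, rfl⟩
      rw [hprc]
      exact hεm _ _ ((Art.res_app (combPr l) a).trans (mem_max_artW.1 ha))
    · intro a b _ _ ha hb; rw [map_add, mul_add, ha, hb, add_zero]
    · intro r y _ hy; rw [smul_eq_mul, map_mul, mul_left_comm, hy, mul_zero]
  have hi : ∀ U : ξ.total.affineOpens, Function.Surjective (ξ.i.app U.1) := fun U => by
    have := InfAut29.isClosedImmersion_i (artW k k n).res_surjective ξ.isPullback
    exact ξ.i.app_surjective U.1 U.2
  choose lift hlift using hi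
  let F : ∀ U : ξ.total.affineOpens, Γ(ξ.total, U.1) → Γ(η.total, pr ⁻¹ᵁ U.1) := fun U s =>
    pr.app U.1 s - ε (pr ⁻¹ᵁ U.1) * pr.app U.1 (lift U (δ U s))
  have hε₂ : ∀ W, ε W * ε W = 0 := fun W => hεm W _ (TrivSqZeroExt.fst_inr k (1 : k))
  have hεlift : ∀ (U : ξ.total.affineOpens) s t, ξ.i.app U.1 s = t →
      ε (pr ⁻¹ᵁ U.1) * pr.app U.1 (lift U t) = ε (pr ⁻¹ᵁ U.1) * pr.app U.1 s := fun U s t h => by
    rw [← sub_eq_zero, ← mul_sub, ← map_sub]
    exact hεker U _ (by rw [map_sub, hlift, h, sub_self])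
  have hFadd : ∀ U s t, F U (s + t) = F U s + F U t := fun U s t => by
    show _ - _ = (_ - _) + (_ - _)
    rw [hεlift U (lift U (δ U s) + lift U (δ U t)) _ (by rw [map_add, hlift, hlift, map_add]), map_add, map_add]
    ring
  have hFmul : ∀ U s t, F U (s * t) = F U s * F U t := fun U s t => by
    show _ - _ = (_ - _) * (_ - _)
    rw [hεlift U (s * lift U (δ U t) + t * lift U (δ U s)) _ (by rw [map_add, map_mul, map_mul, hlift, hlift, hmul]),
      map_add, map_mul, map_mul, map_mul]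
    linear_combination -(pr.app U.1 (lift U (δ U s)) * pr.app U.1 (lift U (δ U t))) * hε₂ (pr ⁻¹ᵁ U.1)
  have hFm : ∀ (U : ξ.total.affineOpens) (s : Γ(ξ.total, U.1)), ξ.i.app U.1 s = 0 → F U s = 0 := by
    intro U s hs
    have hs' : s ∈ (maximalIdeal (artW k k n)).map (strMap ξ.f U.1) :=
      (ker_i_app (artW k k n).res_surjective ξ.isPullback U.2).le hs
    refine Submodule.span_induction (p := fun y _ => F U y = 0) ?_ ?_ ?_ ?_ hs'
    · rintro _ ⟨a, ha, rfl⟩
      show _ - _ = 0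
      rw [hεlift U (strMap ξ.f U.1 (algebraMap k (artW k k n) (dot l (TrivSqZeroExt.snd a)))) _
        (by rw [i_app_strMap (artW k k n).res_surjective ξ.isPullback, hval]; exact congrArg (strMap x _) (AlgHom.commutes _ _)),
        hprc, hprc]
      show _ - strMap η.f _ _ * strMap η.f _ _ = 0
      rw [← map_mul, ← map_sub]
      refine (congrArg (strMap η.f _) (?_ : (show DualNumber k from combPr l a) -
        DualNumber.eps * (show DualNumber k from combPr l (algebraMap k (artW k k n) (dot l (TrivSqZeroExt.snd a)))) = 0)).trans (map_zero _)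
      have h0 : TrivSqZeroExt.fst (show DualNumber k from combPr l a) = 0 :=
        (Art.res_app (combPr l) a).trans (mem_max_artW.1 ha)
      have h1 : TrivSqZeroExt.snd (show DualNumber k from combPr l a) = dot l (TrivSqZeroExt.snd a) := snd_combPr l a
      have h2 : TrivSqZeroExt.fst (show DualNumber k from combPr l (algebraMap k (artW k k n) (dot l (TrivSqZeroExt.snd a)))) =
          dot l (TrivSqZeroExt.snd a) := (Art.res_app (combPr l) _).trans (AlgHom.commutes _ _)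
      exact TrivSqZeroExt.ext (by simp [h0]) (by simp [h1, h2]; exact sub_eq_zero.2 (TrivSqZeroExt.fst_inl _ _).symm)
    · show F U 0 = 0
      simpa using hFadd U 0 0
    · intro a b _ _ ha hb; rw [hFadd, ha, hb, add_zero]
    · intro r y _ hy; rw [smul_eq_mul, hFmul, hy, mul_zero]
  let V : ξ.total.affineOpens → X.affineOpens := fun U => ⟨ξ.i ⁻¹ᵁ U.1, by
    have := InfAut29.isClosedImmersion_i (artW k k n).res_surjective ξ.isPullback
    exact U.2.preimage ξ.i⟩
  have hFwd : ∀ U s, F U (lift U (ξ.i.app U.1 s)) = F U s := fun U s => by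
    have h := hFadd U (lift U (ξ.i.app U.1 s) - s) s
    rw [sub_add_cancel, hFm U (lift U (ξ.i.app U.1 s) - s) (by rw [map_sub, hlift, sub_self]), zero_add] at h
    exact h
  let σ : ∀ U : ξ.total.affineOpens, Γ(X, (V U).1) ⟶ Γ(η.total, pr ⁻¹ᵁ U.1) := fun U => CommRingCat.ofHom
    { toFun := fun t => F U (lift U t)
      map_zero' := hFm U _ (hlift U 0)
      map_one' := by
        rw [← map_one (ξ.i.app U.1).hom, hFwd]
        show _ - _ = (1 : Γ(η.total, pr ⁻¹ᵁ U.1))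
        have h1 : δ U 1 = 0 := by
          have := hval U 1
          rw [map_one, TrivSqZeroExt.snd_one, map_zero, map_zero] at this
          exact this
        rw [hεlift U 0 _ (by rw [h1, map_zero]), map_zero, mul_zero, sub_zero, map_one]
      map_add' := fun s t => by
        rw [← hFadd, ← hFwd U (lift U s + lift U t)]
        simp only [map_add, hlift]
      map_mul' := fun s t => by
        rw [← hFmul, ← hFwd U (lift U s * lift U t)]
        simp only [map_mul, hlift] }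
  have hσi : ∀ U s, σ U (ξ.i.app U.1 s) = F U s := hFwd
  have hci := InfAut29.isClosedImmersion_i (artW k k n).res_surjective ξ.isPullback
  have hsurj := InfAut29.surjective_i ξ.isPullback
  have hsurj' := InfAut29.surjective_i η.isPullback
  have hres : ∀ (U U' : ξ.total.affineOpens) (h₁ : pr ⁻¹ᵁ U.1 ≤ pr ⁻¹ᵁ U'.1) (h₂ : (V U).1 ≤ (V U').1),
      σ U' ≫ η.total.presheaf.map (homOfLE h₁).op = X.presheaf.map (homOfLE h₂).op ≫ σ U := by
    intro U U' h₁ h₂
    have hUU : U.1 ≤ U'.1 := fun t ht => by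
      obtain ⟨y, rfl⟩ := hsurj.surj t
      exact h₂ ht
    ext t
    obtain ⟨s, rfl⟩ : ∃ s, ξ.i.app U'.1 s = t := ⟨_, hlift U' t⟩
    have hc : X.presheaf.map (homOfLE h₂).op (ξ.i.app U'.1 s) = ξ.i.app U.1 (ξ.total.presheaf.map (homOfLE hUU).op s) :=
      (ConcreteCategory.congr_hom (ξ.i.naturality (homOfLE hUU).op) s).symm
    rw [CommRingCat.comp_apply, CommRingCat.comp_apply, hc, hσi, hσi]
    have hp : ∀ w, η.total.presheaf.map (homOfLE h₁).op (pr.app U'.1 w) = pr.app U.1 (ξ.total.presheaf.map (homOfLE hUU).op w) :=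
      fun w => (ConcreteCategory.congr_hom (pr.naturality (homOfLE hUU).op) w).symm
    show η.total.presheaf.map _ (_ - _) = _ - _
    rw [map_sub, map_mul, hp, hp, show η.total.presheaf.map (homOfLE h₁).op (ε (pr ⁻¹ᵁ U'.1)) = ε (pr ⁻¹ᵁ U.1) from res_strMap _ _ _,
      hεlift U (ξ.total.presheaf.map (homOfLE hUU).op (lift U' (δ U' s))) _]
    rw [hnat U U' hUU, ← CommRingCat.comp_apply, Scheme.Hom.naturality, CommRingCat.comp_apply, hlift]
    rfl
  have hcov : IsOpenCover fun U : ξ.total.affineOpens => pr ⁻¹ᵁ U.1 := eq_top_iff.2 fun t _ => by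
    obtain ⟨U, hU, htU, -⟩ := Opens.isBasis_iff_nbhd.mp ξ.total.isBasis_affineOpens (Opens.mem_top (pr t))
    exact Opens.mem_iSup.2 ⟨⟨U, hU⟩, htU⟩
  have hWV : ∀ (a b : ξ.total.affineOpens) t, t ∈ pr ⁻¹ᵁ a.1 → t ∈ pr ⁻¹ᵁ b.1 →
      ∃ e : ξ.total.affineOpens, t ∈ pr ⁻¹ᵁ e.1 ∧ (pr ⁻¹ᵁ e.1 ≤ pr ⁻¹ᵁ a.1 ∧ (V e).1 ≤ (V a).1) ∧
        (pr ⁻¹ᵁ e.1 ≤ pr ⁻¹ᵁ b.1 ∧ (V e).1 ≤ (V b).1) := by
    intro a b t ha hb
    obtain ⟨U, hU, htU, hle⟩ := Opens.isBasis_iff_nbhd.mp ξ.total.isBasis_affineOpens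
      (show pr t ∈ a.1 ⊓ b.1 from ⟨ha, hb⟩)
    exact ⟨⟨U, hU⟩, htU, ⟨pr.preimage_mono (hle.trans inf_le_left), ξ.i.preimage_mono (hle.trans inf_le_left)⟩,
      ⟨pr.preimage_mono (hle.trans inf_le_right), ξ.i.preimage_mono (hle.trans inf_le_right)⟩⟩
  obtain ⟨G, hG⟩ := exists_glue_index _ V hcov hWV σ hres
  have hGle : ∀ U, pr ⁻¹ᵁ U.1 ≤ G ⁻¹ᵁ (V U).1 := fun U t ht => by
    show G t ∈ (V U).1
    have h2 := congrArg (fun φ : (pr ⁻¹ᵁ U.1).toScheme ⟶ X => φ ⟨t, ht⟩) (hG U)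
    simp only [Scheme.Hom.comp_apply, Scheme.Opens.ι_apply] at h2
    rw [h2]
    have : (V U).2.fromSpec (Spec.map (σ U) ((pr ⁻¹ᵁ U.1).toSpecΓ ⟨t, ht⟩)) ∈ Set.range (V U).2.fromSpec := ⟨_, rfl⟩
    rwa [(V U).2.range_fromSpec] at this
  haveI : IsAffineHom pr := MorphismProperty.pullback_fst (P := @IsAffineHom) _ _ inferInstance
  have happ : ∀ U, G.appLE (V U).1 (pr ⁻¹ᵁ U.1) (hGle U) = σ U := fun U => by
    have hU' : IsAffineOpen (pr ⁻¹ᵁ U.1) := U.2.preimage pr
    have h1 := IsAffineOpen.SpecMap_appLE_fromSpec G (V U).2 hU' (hGle U)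
    have h2 : Spec.map (σ U) ≫ (V U).2.fromSpec = hU'.fromSpec ≫ G := by
      rw [show hU'.fromSpec = hU'.isoSpec.inv ≫ (pr ⁻¹ᵁ U.1).ι from rfl, Category.assoc, hG,
        IsAffineOpen.isoSpec_inv_toSpecΓ_assoc]
    rw [← h1, cancel_mono] at h2
    exact (Spec.map_injective h2).symm
  have hGx : G ≫ x = η.f ≫ Art.specMap (Art.ofBase (Art.dual k k)) := by
    refine ext_of_isAffine ?_
    rw [← cancel_epi (Scheme.ΓSpecIso (CommRingCat.of k)).inv]
    ext a
    simp only [CommRingCat.comp_apply, Scheme.Hom.appTop]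
    refine TopCat.Sheaf.eq_of_locally_eq' η.total.sheaf (fun U : ξ.total.affineOpens => pr ⁻¹ᵁ U.1) _
      (fun U => homOfLE le_top) hcov.ge _ _ fun U => ?_
    change ((G ≫ x).appLE ⊤ (pr ⁻¹ᵁ U.1) (top_le_preimage _ _)) ((Scheme.ΓSpecIso (CommRingCat.of k)).inv a) =
      ((η.f ≫ Art.specMap (Art.ofBase (Art.dual k k))).appLE ⊤ (pr ⁻¹ᵁ U.1) (top_le_preimage _ _))
        ((Scheme.ΓSpecIso (CommRingCat.of k)).inv a)
    rw [← Scheme.Hom.appLE_comp_appLE G x ⊤ (V U).1 (pr ⁻¹ᵁ U.1) (top_le_preimage x (V U).1) (hGle U),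
      CommRingCat.comp_apply, happ]
    change σ U (strMap x (V U).1 a) = strMap (η.f ≫ Spec.map (CommRingCat.ofHom (algebraMap k (DualNumber k)))) _ a
    have hc : strMap x (V U).1 a = ξ.i.app U.1 (strMap ξ.f U.1 (algebraMap k (artW k k n) a)) := by
      rw [i_app_strMap (artW k k n).res_surjective ξ.isPullback]
      exact congrArg (strMap x _) (AlgHom.commutes (artW k k n).res a).symm
    rw [hc, hσi, strMap_comp]
    show _ - _ = _
    rw [hεlift U 0 _ (by rw [hval, map_zero]; exact ((congrArg (strMap x _) ((congrArg (dot l) (TrivSqZeroExt.snd_inl _ _)).trans (map_zero _))).trans (map_zero _)).symm),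
      map_zero, mul_zero, sub_zero, hprc]
    exact congrArg (strMap η.f _) (AlgHom.commutes _ _)
  have hiG : η.i ≫ G = 𝟙 X := by
    have hcovX : IsOpenCover fun U : ξ.total.affineOpens => (V U).1 := eq_top_iff.2 fun t _ => by
      obtain ⟨U, hU, htU, -⟩ := Opens.isBasis_iff_nbhd.mp ξ.total.isBasis_affineOpens (Opens.mem_top (ξ.i t))
      exact Opens.mem_iSup.2 ⟨⟨U, hU⟩, htU⟩
    refine Scheme.Cover.hom_ext (X.openCoverOfIsOpenCover _ hcovX) _ _ fun U => ?_
    show (V U).1.ι ≫ η.i ≫ G = (V U).1.ι ≫ 𝟙 X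
    have e₀ : (V U).1 ≤ η.i ⁻¹ᵁ (pr ⁻¹ᵁ U.1) := by
      rw [← Scheme.Hom.comp_preimage]; simp only [hipr]; exact le_rfl
    have e : (V U).1 ≤ (η.i ≫ G) ⁻¹ᵁ (V U).1 := e₀.trans (Scheme.Hom.preimage_mono _ (hGle U))
    rw [← cancel_epi (V U).2.isoSpec.inv, ← Category.assoc, ← Category.assoc (V U).2.isoSpec.inv]
    show (V U).2.fromSpec ≫ η.i ≫ G = (V U).2.fromSpec ≫ 𝟙 X
    rw [← IsAffineOpen.SpecMap_appLE_fromSpec (η.i ≫ G) (V U).2 (V U).2 e, Category.comp_id]
    have : (η.i ≫ G).appLE (V U).1 (V U).1 e = 𝟙 _ := by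
      rw [← Scheme.Hom.appLE_comp_appLE η.i G (V U).1 (pr ⁻¹ᵁ U.1) (V U).1 (hGle U) e₀, happ]
      ext t
      obtain ⟨s, rfl⟩ : ∃ s, ξ.i.app U.1 s = t := ⟨_, hlift U t⟩
      rw [CommRingCat.comp_apply, hσi]
      show η.i.appLE _ _ e₀ (_ - _) = _
      have hz : η.i.appLE (pr ⁻¹ᵁ U.1) (V U).1 e₀ (ε (pr ⁻¹ᵁ U.1)) = 0 := by
        have h := i_app_strMap (Art.dual k k).res_surjective η.isPullback (pr ⁻¹ᵁ U.1)
          (show Art.dual k k from (DualNumber.eps : DualNumber k))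
        have h' := congrArg (X.presheaf.map (homOfLE e₀).op) h
        rw [res_strMap, ← CommRingCat.comp_apply] at h'
        exact h'.trans ((congrArg (strMap x _) (TrivSqZeroExt.fst_inr k (1 : k))).trans (map_zero _))
      rw [map_sub, map_mul, hz, zero_mul, sub_zero, Scheme.Hom.app_eq_appLE, ← CommRingCat.comp_apply,
        Scheme.Hom.appLE_comp_appLE]
      simp only [hipr]
      rw [← Scheme.Hom.app_eq_appLE]
      rfl
    rw [this, Spec.map_id, Category.id_comp]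
  let φ : η.total ⟶ (DefSch.trivial X x Et18.DefGlue.flat_x (Art.dual k k)).total := pullback.lift G η.f hGx
  refine ⟨Et18.DefGlue.isoOfHom φ (pullback.lift_snd _ _ _) (pullback.hom_ext ?_ ?_)⟩
  · rw [Category.assoc, pullback.lift_fst, hiG]
    exact (pullback.lift_fst _ _ _).symm
  · rw [Category.assoc, pullback.lift_snd]
    exact (DefSch.i_f η).trans (pullback.lift_snd _ _ _).symm

end Groth.Agent.DefFin29
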