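import Groth.Agent.DefFin29.Split
import Groth.Agent.DefFin29.Trivial
import Groth.Agent.SemiExt29.Torsor
import Groth.Agent.SemiExt29.TangentW

/-!
# Smooth schemes without extensions of the differentials by the structure sheaf are rigid
-/

set_option autoImplicit false
set_option backward.isDefEq.respectTransparency.types false
set_option backward.isDefEq.respectTransparency false
set_option linter.style.haveILetI false
universe u

open CategoryTheory CategoryTheory.Limits AlgebraicGeometry ArtFun ArtFun.Art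
open Groth.Agent.SemiExt29
open Abelian (Ext)

noncomputable section

namespace Groth.Agent.DefFin29

variable {k : Type u} [Field k] {X : Scheme.{u}} {x : X ⟶ Spec (CommRingCat.of k)}

/-- `k[ε]` as `k[W]`. -/
def dualToW (k : Type u) [Field k] : Art.dual k k ⟶ artW k k 1 :=
  ⟨TrivSqZeroExt.map (R' := k) (LinearMap.pi fun _ : Fin 1 => LinearMap.id),
    AlgHom.ext fun z => TrivSqZeroExt.fst_map _ z⟩

theorem subsingleton_obj_of_ext [Smooth x] [QuasiSeparated x] [HasExt.{u} X.Modules]
    (h : Subsingleton (Ext.{u} (Omega.sheaf x) (Coh.structureModule X) 1)) (A : Art k k) :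
    Subsingleton ((defFunctor (Λ := k) X x).obj A) := by
  let F := defFunctor (Λ := k) X x
  let l : Fin 1 → k := fun _ => 1
  have h₁ : ∀ a : artW k k 1, dualToW k (combPr l a) = a := fun a => by
    refine TrivSqZeroExt.ext ?_ (funext fun j => ?_)
    · exact ((TrivSqZeroExt.fst_map _ _).trans (Art.res_app (combPr l) a))
    · refine (congrFun (TrivSqZeroExt.snd_map _ _) j).trans ?_
      show TrivSqZeroExt.snd (show DualNumber k from combPr l a) = _
      rw [snd_combPr, Fin.eq_zero j]
      simp [dot, l]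
  have h₂ : ∀ a : Art.dual k k, combPr l (dualToW k a) = a := fun a => by
    refine TrivSqZeroExt.ext ?_ ?_
    · exact (Art.res_app (combPr l) _).trans (TrivSqZeroExt.fst_map _ _)
    · show TrivSqZeroExt.snd (show DualNumber k from combPr l (dualToW k a)) = _
      rw [snd_combPr]
      show dot l (TrivSqZeroExt.snd (TrivSqZeroExt.map (R' := k) _ (show DualNumber k from a))) = _
      rw [TrivSqZeroExt.snd_map]
      simp [dot, l]
  have hW1 : ∀ z : F.obj (artW k k 1),
      F.map (combPr l) z = (DefSch.trivial X x Et18.DefGlue.flat_x (Art.dual k k)).cl := fun z => by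
    induction z using Quotient.inductionOn with
    | h ξ =>
    obtain ⟨δ, hδ⟩ := exists_twist_of_subsingleton_ext ξ h
    obtain ⟨e⟩ := trivial_of_twist hδ
    exact Quotient.sound ⟨e⟩
  have hdual : Subsingleton (F.obj (Art.dual k k)) := ⟨fun z w => by
    have e : dualToW k ≫ combPr l = 𝟙 _ := ArtFunLib.hom_ext_apply h₂
    have hz := (ArtFunLib.map_map (F := F) (dualToW k) (combPr l) z).trans (by rw [e, ArtFunLib.map_id'])
    have hw := (ArtFunLib.map_map (F := F) (dualToW k) (combPr l) w).trans (by rw [e, ArtFunLib.map_id'])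
    rw [← hz, ← hw, hW1, hW1]⟩
  have hW : ∀ n, Subsingleton (F.obj (artW k k n)) := by
    intro n
    induction n with
    | zero =>
      refine ⟨fun z w => ?_⟩
      let inc : base k k ⟶ artW k k 0 :=
        ⟨IsScalarTower.toAlgHom k k (TrivSqZeroExt k (Fin 0 → k)), AlgHom.ext fun c => rfl⟩
      have hid : toBase (artW k k 0) ≫ inc = 𝟙 _ := ArtFunLib.hom_ext_apply fun a =>
        TrivSqZeroExt.ext (TrivSqZeroExt.fst_inl _ _) (Subsingleton.elim _ _)
      obtain ⟨_, hsub⟩ := Et18.DefGlue.h0_defFunctor (Λ := k) (X := X) (x := x)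
      have h2 : ∀ v, F.map inc (F.map (toBase (artW k k 0)) v) = v := fun v => by
        rw [ArtFunLib.map_map, hid, ArtFunLib.map_id']
      rw [← h2 z, ← h2 w]
      exact congrArg _ (hsub.elim _ _)
    | succ n ih =>
      refine ⟨fun z w => (Et18.DefGlue.heps_defFunctor _ _ (isFibreProd (Λ := k) (k := k) n)).1 ?_⟩
      rw [ArtFunLib.cmp_eq_iff]
      exact ⟨ih.elim _ _, hdual.elim _ _⟩
  refine ArtFunLib.surj_induction (fun A A' (_ : A' ⟶ A) => Subsingleton (F.obj A) → Subsingleton (F.obj A')) ?_ ?_ ?_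
    (toBase A) A.res_surjective Et18.DefGlue.h0_defFunctor.2
  · intro A A' e he hA
    exact (ArtFunLib.map_bijective F e).1.subsingleton
  · intro A A' p hp hA
    refine ⟨fun a b => ?_⟩
    induction a using Quotient.inductionOn with
    | h ξ =>
    induction b using Quotient.inductionOn with
    | h ξ' =>
    obtain ⟨e⟩ := Quotient.exact (@Subsingleton.elim _ hA ((ξ'.baseChange p).cl) ((ξ.baseChange p).cl))
    obtain ⟨n, ⟨eJ⟩, ⟨E⟩⟩ := exists_equiv (X := X) x hp.isSemismallExt (𝒳 := ξ.baseChange p) ⟨ξ, DefSch.Iso.refl _⟩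
    haveI := hW n
    haveI : Subsingleton (SemiExt29.Ext p (ξ.baseChange p)) := E.subsingleton
    exact congrArg (Quot.lift (fun a : (Σ ζ : DefSch X x A', (ζ.baseChange p).Iso (ξ.baseChange p)) => a.1.cl)
      (fun a b ⟨ψ, _⟩ => Quotient.sound ⟨ψ⟩))
      (Subsingleton.elim (Quot.mk _ ⟨ξ, DefSch.Iso.refl _⟩ : SemiExt29.Ext p (ξ.baseChange p)) (Quot.mk _ ⟨ξ', e⟩))
  · exact fun A B C p q _ _ hp hq h => hp (hq h)

/-- The same, for a plain Artinian algebra. -/
theorem exists_iso_trivial_of_ext [Smooth x] [QuasiSeparated x] [HasExt.{u} X.Modules]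
    (h : Subsingleton (Ext.{u} (Omega.sheaf x) (Coh.structureModule X) 1))
    (A : Type u) [CommRing A] [Algebra k A] [IsLocalRing A] [IsArtinianRing A] (e : A →ₐ[k] k)
    (Y : Scheme.{u}) (f : Y ⟶ Spec (CommRingCat.of A)) (i : X ⟶ Y) (hf : Flat f)
    (hi : IsPullback i x f (Spec.map (CommRingCat.ofHom e.toRingHom))) :
    ∃ φ : Y ≅ pullback x (Spec.map (CommRingCat.ofHom (algebraMap k A))),
      φ.hom ≫ pullback.snd _ _ = f ∧ i ≫ φ.hom ≫ pullback.fst _ _ = 𝟙 X := by
  let A' : Art k k :=
    { carrier := A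
      res := e
      res_surjective := fun c => ⟨algebraMap k A c, e.commutes c⟩ }
  let ξ : DefSch X x A' := ⟨Y, f, hf, i, hi⟩
  haveI := subsingleton_obj_of_ext h A'
  obtain ⟨φ⟩ := Quotient.exact (Subsingleton.elim ξ.cl (DefSch.trivial X x Et18.DefGlue.flat_x A').cl)
  refine ⟨φ.iso, φ.hom_f, ?_⟩
  have h1 := congrArg (· ≫ pullback.fst x (Art.specMap (Art.ofBase A'))) φ.i_hom
  simp only [Category.assoc] at h1
  exact h1.trans (pullback.lift_fst _ _ _)

end Groth.Agent.DefFin29
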