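import Groth.Agent.DefFin29.ExtData
import Groth.Agent.DefFin29.RigidExt
import Groth.Agent.Et18.ExtRealize

/-!
# Deformations over `k[W]` of a smooth scheme are the extensions of the differentials by the structure sheaf
-/

set_option autoImplicit false
set_option backward.isDefEq.respectTransparency.types false
set_option backward.isDefEq.respectTransparency false
set_option linter.style.haveILetI false
set_option maxHeartbeats 800000
universe u

open CategoryTheory CategoryTheory.Limits AlgebraicGeometry ArtFun ArtFun.Art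
open Groth.Agent.SemiExt29
open Abelian (Ext)

noncomputable section

namespace Groth.Agent.DefFin29

open ExtDeform

variable {k : Type u} [Field k] {X : Scheme.{u}} {x : X ⟶ Spec (CommRingCat.of k)} [QuasiSeparated x]

/-- The deformation of an extension. -/
def defOfExt {E : X.Modules} {ι : Coh.structureModule X ⟶ E} {p : E ⟶ Omega.sheaf x} {hip : ι ≫ p = 0}
    (hS : (ShortComplex.mk ι p hip).ShortExact) : DefSch X x (artW k k 1) :=
  haveI : ∀ {U V : X.affineOpens} (f : U ⟶ V), IsOpenImmersion ((F x p).map f) := isOpenImmersion_map x hip hS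
  haveI := isLocallyDirected x hip hS
  totalDef hip hS

theorem nonempty_equiv_ext [Smooth x] [HasExt.{u} X.Modules] :
    Nonempty (Ext.{u} (Omega.sheaf x) (Coh.structureModule X) 1 ≃ (defFunctor (Λ := k) X x).obj (artW k k 1)) := by
  choose E ι p hip hS he using
    fun e : Ext.{u} (Omega.sheaf x) (Coh.structureModule X) 1 => Et18.ExtRealize.exists_extClass_eq e
  let Φ : Ext.{u} (Omega.sheaf x) (Coh.structureModule X) 1 → (defFunctor (Λ := k) X x).obj (artW k k 1) :=
    fun e => (defOfExt (hS e)).cl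
  have hdata : ∀ e, Nonempty (ExtData (defOfExt (hS e)) (ι e) (p e)) := fun e =>
    haveI : ∀ {U V : X.affineOpens} (f : U ⟶ V), IsOpenImmersion ((F x (p e)).map f) :=
      isOpenImmersion_map x (hip e) (hS e)
    haveI := isLocallyDirected x (hip e) (hS e)
    nonempty_totalData (hip e) (hS e)
  refine ⟨Equiv.ofBijective Φ ⟨fun e e' h => ?_, fun z => ?_⟩⟩
  · obtain ⟨i⟩ := Quotient.exact h
    obtain ⟨d⟩ := hdata e
    obtain ⟨d₁⟩ := d.nonempty_comap i
    obtain ⟨d'⟩ := hdata e'
    rw [← he e, ← he e', ← d₁.extClass_eq (hS e), ← d'.extClass_eq (hS e')]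
  · induction z using Quotient.inductionOn with
    | h ξ =>
    let e := (omegaSeq_shortExact ξ).extClass
    refine ⟨e, ?_⟩
    obtain ⟨g, hg₁, hg₂⟩ := Et18.ExtRealize.exists_hom_of_extClass_eq (omegaSeq_shortExact ξ) (hS e) (𝟙 _) (𝟙 _)
      ((Ext.comp_mk₀_id _).trans ((he e).symm.trans (Ext.mk₀_id_comp _).symm))
    let d : ExtData ξ (ι e) (p e) := (seqData ξ).map g (hg₁.trans (Category.id_comp _))
      (hg₂.symm.trans (Category.comp_id _))
    haveI : ∀ {U V : X.affineOpens} (f : U ⟶ V), IsOpenImmersion ((F x (p e)).map f) :=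
      isOpenImmersion_map x (hip e) (hS e)
    haveI := isLocallyDirected x (hip e) (hS e)
    obtain ⟨i⟩ := d.nonempty_iso (hip e) (hS e)
    exact Quotient.sound ⟨i⟩

theorem nonempty_equiv_dual :
    Nonempty ((defFunctor (Λ := k) X x).obj (artW k k 1) ≃ (defFunctor (Λ := k) X x).obj (Art.dual k k)) := by
  let l : Fin 1 → k := fun _ => 1
  have h₁ : ∀ a : artW k k 1, dualToW k (combPr l a) = a := fun a => by
    refine TrivSqZeroExt.ext ?_ (funext fun j => ?_)
    · exact ((TrivSqZeroExt.fst_map _ _).trans (Art.res_app (combPr l) a))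
    · refine (congrFun (TrivSqZeroExt.snd_map _ _) j).trans ?_
      show TrivSqZeroExt.snd (show DualNumber k from combPr l a) = _
      rw [snd_combPr, Fin.eq_zero j]
      simp [dot, l]
  have h₂ : ∀ a : Art.dual k k, combPr l (dualToW k a) = a := fun a => by
    refine TrivSqZeroExt.ext ?_ ?_
    · exact (Art.res_app (combPr l) _).trans (TrivSqZeroExt.fst_map _ _)
    · show TrivSqZeroExt.snd (show DualNumber k from combPr l (dualToW k a)) = _
      rw [snd_combPr]
      show dot l (TrivSqZeroExt.snd (TrivSqZeroExt.map (R' := k) _ (show DualNumber k from a))) = _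
      rw [TrivSqZeroExt.snd_map]
      simp [dot, l]
  let G := defFunctor (Λ := k) X x
  refine ⟨⟨G.map (combPr l), G.map (dualToW k), fun z => ?_, fun z => ?_⟩⟩
  · rw [ArtFunLib.map_map, show combPr l ≫ dualToW k = 𝟙 _ from ArtFunLib.hom_ext_apply h₁, ArtFunLib.map_id']
  · rw [ArtFunLib.map_map, show dualToW k ≫ combPr l = 𝟙 _ from ArtFunLib.hom_ext_apply h₂, ArtFunLib.map_id']

/-- Deformations over `k[k^n]` are `n`-tuples of classes of extensions. -/
theorem nonempty_equiv_pi [Smooth x] [HasExt.{u} X.Modules] (n : ℕ) :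
    Nonempty ((defFunctor (Λ := k) X x).obj (artW k k n) ≃
      (Fin n → Ext.{u} (Omega.sheaf x) (Coh.structureModule X) 1)) := by
  let G := defFunctor (Λ := k) X x
  obtain ⟨e₁⟩ := nonempty_equiv_ext (x := x)
  obtain ⟨e₂⟩ := nonempty_equiv_dual (x := x)
  induction n with
  | zero =>
    let inc : base k k ⟶ artW k k 0 :=
      ⟨IsScalarTower.toAlgHom k k (TrivSqZeroExt k (Fin 0 → k)), AlgHom.ext fun c => rfl⟩
    have hid : toBase (artW k k 0) ≫ inc = 𝟙 _ := ArtFunLib.hom_ext_apply fun a =>
      TrivSqZeroExt.ext (TrivSqZeroExt.fst_inl _ _) (Subsingleton.elim _ _)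
    obtain ⟨hne, hsub⟩ := Et18.DefGlue.h0_defFunctor (Λ := k) (X := X) (x := x)
    have h2 : ∀ v, G.map inc (G.map (toBase (artW k k 0)) v) = v := fun v => by
      rw [ArtFunLib.map_map, hid, ArtFunLib.map_id']
    haveI : Subsingleton (G.obj (artW k k 0)) := ⟨fun z w => by
      rw [← h2 z, ← h2 w]
      exact congrArg _ (hsub.elim _ _)⟩
    exact ⟨⟨fun _ i => i.elim0, fun _ => G.map inc hne.some, fun _ => Subsingleton.elim _ _,
      fun _ => funext fun i => i.elim0⟩⟩
  | succ n ih =>
    obtain ⟨eₙ⟩ := ih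
    have h := Et18.DefGlue.heps_defFunctor (X := X) (x := x) _ _ (isFibreProd (Λ := k) (k := k) n)
    let eF : G.obj (artW k k (n + 1)) ≃ G.obj (artW k k n) × G.obj (Art.dual k k) :=
      (Equiv.ofBijective _ h).trans
        { toFun := fun z => z.1
          invFun := fun z => ⟨z, by
            obtain ⟨_, hsub⟩ := Et18.DefGlue.h0_defFunctor (Λ := k) (X := X) (x := x)
            exact hsub.elim _ _⟩
          left_inv := fun _ => rfl
          right_inv := fun _ => rfl }
    exact ⟨eF.trans ((Equiv.prodCongr eₙ (e₂.symm.trans e₁.symm)).trans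
      ((Equiv.prodComm _ _).trans (Fin.consEquiv fun _ => Ext.{u} (Omega.sheaf x) (Coh.structureModule X) 1)))⟩

end Groth.Agent.DefFin29
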