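import Groth.Agent.DefFin29.ExtGlue
import Groth.Agent.Et18.DefGlue
import Groth.Agent.H8Lim.ModHomDescent

/-!
# Deformations over `k[W]`, `W = k`, and the extensions of the differentials they induce
-/

set_option autoImplicit false
set_option backward.isDefEq.respectTransparency.types false
set_option backward.isDefEq.respectTransparency false
set_option linter.style.haveILetI false
set_option maxHeartbeats 800000
universe u

open CategoryTheory CategoryTheory.Limits AlgebraicGeometry TopologicalSpace Opposite ArtFun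
open Groth.Agent.ArtGlobal29 Groth.Agent.SemiExt29 Groth.Agent.InfAut29

attribute [local instance 50] Exal.opModule Exal.isCentralScalar_opModule

noncomputable section

namespace Groth.Agent.DefFin29

open ExtDeform

variable {k : Type u} [Field k] {X : Scheme.{u}} {x : X ⟶ Spec (CommRingCat.of k)} [QuasiSeparated x]

/-- Derivations of the total space of a deformation with values in an extension of the differentials. -/
structure ExtData (ξ : DefSch X x (artW k k 1)) {E : X.Modules} (ι : Coh.structureModule X ⟶ E)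
    (p : E ⟶ Omega.sheaf x) where
  δ : ∀ W : ξ.total.affineOpens, Γ(ξ.total, W.1) →+ Γ(E, ξ.i ⁻¹ᵁ W.1)
  nat : ∀ (W W' : ξ.total.affineOpens) (h : W.1 ≤ W'.1) (t : Γ(ξ.total, W'.1)),
    δ W (ξ.total.presheaf.map (homOfLE h).op t) =
      E.presheaf.map (homOfLE (ξ.i.preimage_mono h)).op (δ W' t)
  mul : ∀ (W : ξ.total.affineOpens) (a b : Γ(ξ.total, W.1)),
    δ W (a * b) = ξ.i.app W.1 a • δ W b + ξ.i.app W.1 b • δ W a
  const : ∀ (W : ξ.total.affineOpens) (c : k), δ W (strMap ξ.f W.1 (algebraMap k (artW k k 1) c)) = 0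
  at_eps : ∀ W : ξ.total.affineOpens, δ W (eps ξ W.1) = ι.app (ξ.i ⁻¹ᵁ W.1) (1 : Γ(X, ξ.i ⁻¹ᵁ W.1))
  comm : ∀ (W : ξ.total.affineOpens) (t : Γ(ξ.total, W.1)),
    p.app (ξ.i ⁻¹ᵁ W.1) (δ W t) = (OmegaSh.dOmega x).app (ξ.i ⁻¹ᵁ W.1) (ξ.i.app W.1 t)

variable {ξ : DefSch X x (artW k k 1)} {E : X.Modules} {ι : Coh.structureModule X ⟶ E} {p : E ⟶ Omega.sheaf x}

theorem strMap_sig (ξ : DefSch X x (artW k k 1)) (W : ξ.total.Opens) (c : k) :
    strMap (sig ξ) W c = strMap ξ.f W (algebraMap k (artW k k 1) c) :=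
  strMap_comp (algebraMap k (artW k k 1)) ξ.f W c

variable (ξ) in
/-- The tautological data. -/
def seqData : ExtData ξ (sEps ξ) (phi ξ) where
  δ W := (OmegaSh.pullSect ξ.i (Omega.sheaf (sig ξ)) W.1).hom.comp ((OmegaSh.dOmega (sig ξ)).app W.1)
  nat W W' h t := by
    show OmegaSh.pullSect ξ.i _ W.1 ((OmegaSh.dOmega (sig ξ)).app W.1 (ξ.total.presheaf.map (homOfLE h).op t)) = _
    rw [OmegaLib.app_map (OmegaSh.dOmega (sig ξ)) h, ← pullSect_res ξ h]
    rfl
  mul W a b := by
    show OmegaSh.pullSect ξ.i _ W.1 ((OmegaSh.dOmega (sig ξ)).app W.1 (a * b)) = _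
    rw [OmegaLib.app_mul, map_add, PrinLib.pullSect_smul, PrinLib.pullSect_smul]
    rfl
  const W c := by
    show OmegaSh.pullSect ξ.i _ W.1 ((OmegaSh.dOmega (sig ξ)).app W.1 (strMap ξ.f W.1 (algebraMap k (artW k k 1) c))) = 0
    rw [← strMap_sig, show (OmegaSh.dOmega (sig ξ)).app W.1 (strMap (sig ξ) W.1 c) = 0 from
      OmegaLib.app_appLE (OmegaSh.dOmega (sig ξ)) (top_le_preimage (sig ξ) W.1) _, map_zero]
  at_eps W := ((sEps_app ξ W.1 1).trans (one_smul _ _)).symm
  comm W t := phi_spec ξ W.1 t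

/-- Push data along a map of extensions. -/
def ExtData.map (d : ExtData ξ ι p) {E' : X.Modules} {ι' : Coh.structureModule X ⟶ E'} {p' : E' ⟶ Omega.sheaf x}
    (g : E ⟶ E') (hι : ι ≫ g = ι') (hp : g ≫ p' = p) : ExtData ξ ι' p' where
  δ W := (g.app (ξ.i ⁻¹ᵁ W.1)).hom.comp (d.δ W)
  nat W W' h t := by
    show g.app _ (d.δ W _) = _
    rw [d.nat W W' h t]
    exact congr($(g.mapPresheaf.naturality (homOfLE (ξ.i.preimage_mono h)).op) (d.δ W' t))
  mul W a b := by
    show g.app _ (d.δ W (a * b)) = _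
    rw [d.mul, map_add, Scheme.Modules.Hom.app_smul, Scheme.Modules.Hom.app_smul]
    rfl
  const W c := by
    show g.app _ (d.δ W _) = 0
    rw [d.const, map_zero]
  at_eps W := by
    show g.app _ (d.δ W _) = _
    rw [d.at_eps, ← hι]
    rfl
  comm W t := by
    show (g ≫ p').app (ξ.i ⁻¹ᵁ W.1) (d.δ W t) = _
    rw [hp, d.comm]

theorem isBasis_preimage_affine (ξ : DefSch X x (artW k k 1)) :
    Opens.IsBasis (Set.range fun W : ξ.total.affineOpens => ξ.i ⁻¹ᵁ W.1) := by
  haveI : IsClosedImmersion ξ.i := InfAut29.isClosedImmersion_i (artW k k 1).res_surjective ξ.isPullback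
  rw [Opens.isBasis_iff_nbhd]
  intro W y hy
  obtain ⟨O, hO, hOW⟩ := (IsClosedImmersion.base_closed (f := ξ.i)).isEmbedding.isInducing.isOpen_iff.1 W.isOpen
  obtain ⟨U, hUa, hyU, hUO⟩ := Opens.isBasis_iff_nbhd.mp ξ.total.isBasis_affineOpens
    (show ξ.i y ∈ (⟨O, hO⟩ : ξ.total.Opens) from (congrArg (y ∈ ·) hOW).mpr hy)
  exact ⟨_, ⟨⟨U, hUa⟩, rfl⟩, hyU, fun z hz => (congrArg (z ∈ ·) hOW).mp (hUO hz)⟩

/-- Data define a map out of the tautological sequence. -/
theorem ExtData.exists_toSeq (d : ExtData ξ ι p) :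
    ∃ G : omegaPull ξ ⟶ E, sEps ξ ≫ G = ι ∧ G ≫ p = phi ξ := by
  let σ := sig ξ
  let M := (Scheme.Modules.pushforward ξ.i).obj E
  obtain ⟨D, hD⟩ := exists_derM σ (fun W : ξ.total.affineOpens => W.1)
    (by rw [show Set.range (fun W : ξ.total.affineOpens => W.1) = ξ.total.affineOpens from Subtype.range_val]
        exact ξ.total.isBasis_affineOpens)
    M d.δ d.nat d.mul (fun W c => by rw [strMap_sig]; exact d.const W c)
  obtain ⟨a, ha, -⟩ := S5005.result σ M D
  let G : omegaPull ξ ⟶ E := ((Scheme.Modules.pullbackPushforwardAdjunction ξ.i).homEquiv _ _).symm a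
  have hG : ∀ (W : ξ.total.affineOpens) t,
      G.app (ξ.i ⁻¹ᵁ W.1) (OmegaSh.pullSect ξ.i (Omega.sheaf σ) W.1 ((OmegaSh.dOmega σ).app W.1 t)) = d.δ W t :=
    fun W t => (H8Lim.homEquiv_symm_app_pullSec ξ.i a _).trans
      ((PresheafOfModules.Derivation.congr_d ha t).trans (hD W t))
  refine ⟨G, ?_, ?_⟩
  · refine Scheme.Modules.hom_ext _ _ fun U => ?_
    ext b
    refine OmegaLib.section_ext fun y hy => ?_
    obtain ⟨_, ⟨W, rfl⟩, hyW, hle⟩ := Opens.isBasis_iff_nbhd.mp (isBasis_preimage_affine ξ) hy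
    refine ⟨_, hle, hyW, ?_⟩
    refine (congr($((sEps ξ ≫ G).mapPresheaf.naturality (homOfLE hle).op) b)).symm.trans
      (Eq.trans ?_ (congr($(ι.mapPresheaf.naturality (homOfLE hle).op) b)))
    show G.app _ ((sEps ξ).app _ (X.presheaf.map (homOfLE hle).op b)) = ι.app _ (X.presheaf.map (homOfLE hle).op b)
    rw [sEps_app, Scheme.Modules.Hom.app_smul, hG, d.at_eps, ι_smul, mul_one]
  · refine Omega15.hom_ext_pull_der ξ.i (S5005.result σ) fun U t => ?_
    refine OmegaLib.section_ext fun y hy => ?_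
    obtain ⟨W, hW, hyW, hle⟩ := Opens.isBasis_iff_nbhd.mp ξ.total.isBasis_affineOpens (show ξ.i y ∈ U from hy)
    refine ⟨ξ.i ⁻¹ᵁ W, ξ.i.preimage_mono hle, hyW, ?_⟩
    refine (congr($((G ≫ p).mapPresheaf.naturality (homOfLE (ξ.i.preimage_mono hle)).op) _)).symm.trans
      (Eq.trans ?_ (congr($((phi ξ).mapPresheaf.naturality (homOfLE (ξ.i.preimage_mono hle)).op) _)))
    show p.app _ (G.app _ ((omegaPull ξ).presheaf.map _ _)) = (phi ξ).app _ ((omegaPull ξ).presheaf.map _ _)
    rw [pullSect_res ξ hle, ← OmegaLib.app_map (OmegaSh.dOmega σ) hle, hG ⟨W, hW⟩, phi_spec, d.comm ⟨W, hW⟩]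

variable {hip : ι ≫ p = 0} (hS : (ShortComplex.mk ι p hip).ShortExact)

include hS in
theorem ExtData.extClass_eq [Smooth x] [HasExt.{u} X.Modules] (d : ExtData ξ ι p) :
    (omegaSeq_shortExact ξ).extClass = hS.extClass := by
  obtain ⟨G, hG₁, hG₂⟩ := d.exists_toSeq
  let f : omegaSeq ξ ⟶ ShortComplex.mk ι p hip :=
    { τ₁ := 𝟙 _
      τ₂ := G
      τ₃ := 𝟙 _
      comm₁₂ := by simp [hG₁]
      comm₂₃ := by simp [hG₂] }
  simpa [f] using ShortComplex.ShortExact.extClass_naturality (omegaSeq_shortExact ξ) hS f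

section Total

variable (hip) [∀ {U V : X.affineOpens} (f : U ⟶ V), IsOpenImmersion ((F x p).map f)]
  [(F x p ⋙ Scheme.forget).IsLocallyDirected]

/-- The deformation of an extension. -/
def totalDef : DefSch X x (artW k k 1) :=
  ⟨total x p, toBaseW x hip, flat_toBaseW x hip hS, inclX x p, isPullback_inclX x hip hS⟩

/-- Data give an isomorphism with the deformation of the extension. -/
theorem ExtData.nonempty_iso (d : ExtData ξ ι p) : Nonempty ((totalDef hip hS).Iso ξ) := by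
  let Y := ξ.total
  let i := ξ.i
  haveI : IsClosedImmersion i := InfAut29.isClosedImmersion_i (artW k k 1).res_surjective ξ.isPullback
  haveI : Surjective i := InfAut29.surjective_i ξ.isPullback
  have hW : ∀ U : X.affineOpens, ∃ W : Y.affineOpens, i ⁻¹ᵁ W.1 = U.1 := by
    intro U
    obtain ⟨O, hO, hOU⟩ := (IsClosedImmersion.base_closed (f := i)).isEmbedding.isInducing.isOpen_iff.1 U.1.isOpen
    have e : i ⁻¹ᵁ (⟨O, hO⟩ : Y.Opens) = U.1 := Opens.ext hOU
    haveI : IsAffine (i ⁻¹ᵁ (⟨O, hO⟩ : Y.Opens)).toScheme := e ▸ U.2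
    haveI : IsClosedImmersion (i ∣_ (⟨O, hO⟩ : Y.Opens)) := inferInstance
    haveI : Surjective (i ∣_ (⟨O, hO⟩ : Y.Opens)) := MorphismProperty.of_isPullback (isPullback_morphismRestrict i _).flip ‹Surjective i›
    exact ⟨⟨⟨O, hO⟩, Groth.Agent.VarietyLib.isAffine_of_surjective_closedImmersion (i ∣_ (⟨O, hO⟩ : Y.Opens))
      (i ∣_ (⟨O, hO⟩ : Y.Opens)).surjective⟩, e⟩
  choose W hW using hW
  have hmono : ∀ {U V : X.affineOpens}, U.1 ≤ V.1 → (W U).1 ≤ (W V).1 := by
    intro U V h z hz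
    obtain ⟨y, rfl⟩ := i.surjective z
    have hy : y ∈ U.1 := (hW U) ▸ (show y ∈ i ⁻¹ᵁ (W U).1 from hz)
    exact (show y ∈ i ⁻¹ᵁ (W V).1 from (hW V).symm ▸ h hy)
  have hle : ∀ U : X.affineOpens, U.1 ≤ i ⁻¹ᵁ (W U).1 := fun U => (hW U).ge
  let ρ : ∀ U : X.affineOpens, Γ(Y, (W U).1) ⟶ R x p U.1 := fun U => CommRingCat.ofHom
    { toFun := fun t => ⟨TrivSqZeroExt.inl (i.appLE (W U).1 U.1 (hle U) t) +
        TrivSqZeroExt.inr (E.presheaf.map (homOfLE (hle U)).op (d.δ (W U) t)), by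
        show p.app U.1 _ = (OmegaSh.dOmega x).app U.1 _
        simp only [TrivSqZeroExt.snd_add, TrivSqZeroExt.snd_inl, TrivSqZeroExt.snd_inr, zero_add, TrivSqZeroExt.fst_add,
          TrivSqZeroExt.fst_inl, TrivSqZeroExt.fst_inr, add_zero]
        refine (congr($(p.mapPresheaf.naturality (homOfLE (hle U)).op) (d.δ (W U) t))).trans ?_
        show (Omega.sheaf x).presheaf.map (homOfLE (hle U)).op (p.app _ (d.δ (W U) t)) = _
        rw [d.comm, ← OmegaLib.app_map (OmegaSh.dOmega x) (hle U)]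
        rfl⟩
      map_one' := Subtype.ext (TrivSqZeroExt.ext (by simp) (by
        have h1 : d.δ (W U) 1 = 0 := by
          have h2 := d.mul (W U) 1 1
          rw [mul_one, map_one (ξ.i.app (W U).1).hom, one_smul, eq_comm, add_eq_left] at h2
          exact h2
        simp [h1]))
      map_zero' := Subtype.ext (TrivSqZeroExt.ext (by simp) (by simp))
      map_add' := fun a b => Subtype.ext (TrivSqZeroExt.ext (by simp) (by simp))
      map_mul' := fun a b => Subtype.ext (TrivSqZeroExt.ext (by simp) (by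
        simp [d.mul, Scheme.Modules.map_smul, op_smul_eq_smul, Scheme.Hom.appLE]
        rfl)) }
  have hρfst : ∀ U t, (ρ U t).1.fst = i.appLE (W U).1 U.1 (hle U) t := fun U t => by
    show (TrivSqZeroExt.inl _ + TrivSqZeroExt.inr _ : TrivSqZeroExt Γ(X, U.1) Γ(E, U.1)).fst = _
    simp
  have hρsnd : ∀ U t, (ρ U t).1.snd = E.presheaf.map (homOfLE (hle U)).op (d.δ (W U) t) := fun U t => by
    show (TrivSqZeroExt.inl _ + TrivSqZeroExt.inr _ : TrivSqZeroExt Γ(X, U.1) Γ(E, U.1)).snd = _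
    simp
  have hρres : ∀ (U V : X.affineOpens) (h : U.1 ≤ V.1),
      ρ V ≫ res x p h = Y.presheaf.map (homOfLE (hmono h)).op ≫ ρ U := by
    intro U V h
    refine CommRingCat.hom_ext (RingHom.ext fun t => Subtype.ext (TrivSqZeroExt.ext ?_ ?_))
    · show (res x p h (ρ V t)).1.fst = (ρ U (Y.presheaf.map _ t)).1.fst
      rw [res_fst, hρfst, hρfst, ← CommRingCat.comp_apply, ← CommRingCat.comp_apply, Scheme.Hom.appLE_map, Scheme.Hom.map_appLE]
    · show (res x p h (ρ V t)).1.snd = (ρ U (Y.presheaf.map _ t)).1.snd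
      rw [res_snd, hρsnd, hρsnd, d.nat _ _ (hmono h)]
      exact (congr($(E.presheaf.map_comp (homOfLE (hle V)).op (homOfLE h).op) _)).symm.trans
        (congr($(E.presheaf.map_comp (homOfLE (i.preimage_mono (hmono h))).op (homOfLE (hle U)).op) _))
  let cm : Cocone (F x p) :=
    { pt := Y
      ι :=
        { app := fun U => Spec.map (ρ U) ≫ (W U).2.fromSpec
          naturality := fun U V g => by
            show Spec.map (res x p _) ≫ Spec.map (ρ V) ≫ (W V).2.fromSpec = (Spec.map (ρ U) ≫ (W U).2.fromSpec) ≫ 𝟙 _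
            rw [Category.comp_id, ← Spec.map_comp_assoc, hρres U V, Spec.map_comp_assoc,
              (W V).2.map_fromSpec (W U).2 (homOfLE (hmono (leOfHom g))).op] } }
  let m : total x p ⟶ Y := colimit.desc (F x p) cm
  have hm : ∀ U, piece x p U ≫ m = Spec.map (ρ U) ≫ (W U).2.fromSpec := fun U => colimit.ι_desc cm U
  refine ⟨Et18.DefGlue.isoOfHom (η := totalDef hip hS) (ξ := ξ) m ?_ ?_⟩
  · refine colimit.hom_ext fun U => ?_
    show piece x p U ≫ m ≫ ξ.f = piece x p U ≫ toBaseW x hip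
    rw [← Category.assoc, hm, Category.assoc, piece_toBaseW]
    have hstr : (W U).2.fromSpec ≫ ξ.f = Spec.map (CommRingCat.ofHom (strMap ξ.f (W U).1)) := by
      rw [← IsAffineOpen.SpecMap_appLE_fromSpec ξ.f (isAffineOpen_top _) (W U).2 (top_le_preimage ξ.f (W U).1),
        IsAffineOpen.fromSpec_top, Scheme.isoSpec_Spec_inv, ← Spec.map_comp]
      rfl
    rw [hstr, ← Spec.map_comp]
    congr 1
    have hc : ∀ c : k, ρ U (strMap ξ.f (W U).1 (algebraMap k (artW k k 1) c)) =
        α x hip U.1 (algebraMap k (TrivSqZeroExt k (Fin 1 → k)) c) := fun c => Subtype.ext (TrivSqZeroExt.ext (by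
      rw [hρfst]
      refine (congrArg (X.presheaf.map (homOfLE (hle U)).op)
        (i_app_strMap (artW k k 1).res_surjective ξ.isPullback (W U).1 _)).trans ?_
      rw [res_strMap]
      show strMap x _ ((artW k k 1).res (algebraMap k (artW k k 1) c)) = _
      rw [AlgHom.commutes]
      simp [α, TrivSqZeroExt.algebraMap_eq_inl]) (by
      rw [hρsnd, d.const, map_zero]
      simp [α, TrivSqZeroExt.algebraMap_eq_inl]))
    have he : ρ U (strMap ξ.f (W U).1 (eE k)) = α x hip U.1 (eps1 k) := by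
      rw [α_eps]
      refine Subtype.ext (TrivSqZeroExt.ext ?_ ?_)
      · rw [hρfst]
        refine (congrArg (X.presheaf.map (homOfLE (hle U)).op) (app_eps ξ (W U).1)).trans ?_
        simp [incl]
      · rw [hρsnd, show d.δ (W U) (strMap ξ.f (W U).1 (eE k)) = ι.app _ (1 : Γ(X, ξ.i ⁻¹ᵁ (W U).1)) from d.at_eps (W U), ι_res, map_one]
        simp [incl]
    refine CommRingCat.hom_ext (RingHom.ext fun a => ?_)
    show ρ U (strMap ξ.f (W U).1 a) = α x hip U.1 a
    conv_lhs => rw [decomp a, map_add, map_mul, map_add, map_mul, hc, hc, he]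
    conv_rhs => rw [show a = _ from decomp_aux (show TrivSqZeroExt k (Fin 1 → k) from a), map_add, map_mul]
    rfl
  · refine Scheme.Cover.hom_ext X.directedAffineCover _ _ fun U => ?_
    show U.1.ι ≫ inclX x p ≫ m = U.1.ι ≫ i
    rw [← Category.assoc, ι_inclX, Category.assoc, hm]
    have h1 : ρ U ≫ π x p U.1 = i.appLE (W U).1 U.1 (hle U) :=
      CommRingCat.hom_ext (RingHom.ext fun t => hρfst U t)
    show (U.2.isoSpec.hom ≫ Spec.map (π x p U.1)) ≫ Spec.map (ρ U) ≫ (W U).2.fromSpec = _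
    rw [Category.assoc, ← Spec.map_comp_assoc, h1, IsAffineOpen.SpecMap_appLE_fromSpec i (W U).2 U.2,
      IsAffineOpen.isoSpec_hom_fromSpec_assoc]

theorem exists_chart (W : (totalDef hip hS).total.affineOpens) :
    ∃ hV : IsAffineOpen ((totalDef hip hS).i ⁻¹ᵁ W.1),
      ∀ U : X.affineOpens, U.1 ≤ (totalDef hip hS).i ⁻¹ᵁ W.1 → ⊤ ≤ piece x p U ⁻¹ᵁ W.1 := by
  haveI : IsClosedImmersion (totalDef hip hS).i :=
    InfAut29.isClosedImmersion_i (artW k k 1).res_surjective (totalDef hip hS).isPullback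
  refine ⟨W.2.preimage _, fun U hU b _ => ?_⟩
  obtain ⟨c, rfl⟩ := (bijective_jU x hip hS U).2 b
  show piece x p U (jU x p U c) ∈ W.1
  rw [show piece x p U (jU x p U c) = inclX x p c.1 from
    (congrArg (fun φ : U.1.toScheme ⟶ total x p => φ c) (ι_inclX x (p := p) U)).symm]
  exact hU c.2

/-- The tautological data on the deformation of an extension. -/
theorem nonempty_totalData : Nonempty (ExtData (totalDef hip hS) ι p) := by
  let T := totalDef hip hS
  choose hV htop using exists_chart (hip := hip) hS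
  let V : T.total.affineOpens → X.affineOpens := fun W => ⟨T.i ⁻¹ᵁ W.1, hV W⟩
  let θ : ∀ W : T.total.affineOpens, Γ(T.total, W.1) ⟶ R x p (V W).1 := fun W =>
    (piece x p (V W)).appLE W.1 ⊤ (htop W (V W) le_rfl) ≫ (Scheme.ΓSpecIso (R x p (V W).1)).hom
  have hθ : ∀ W : T.total.affineOpens, Spec.map (θ W) ≫ W.2.fromSpec = piece x p (V W) := by
    intro W
    rw [Spec.map_comp, Category.assoc, IsAffineOpen.SpecMap_appLE_fromSpec _ W.2 (isAffineOpen_top _),
      IsAffineOpen.fromSpec_top, Scheme.isoSpec_Spec_inv, ← Category.assoc, ← Spec.map_comp]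
    simp
  have hθπ : ∀ (W : T.total.affineOpens) t, (θ W t).1.fst = T.i.app W.1 t := by
    intro W t
    have h1 : θ W ≫ π x p (V W).1 = T.i.appLE W.1 (V W).1 le_rfl := by
      apply Spec.map_injective
      rw [← cancel_mono W.2.fromSpec, Spec.map_comp, Category.assoc, hθ,
        IsAffineOpen.SpecMap_appLE_fromSpec T.i W.2 (V W).2, ← cancel_epi (V W).2.isoSpec.hom,
        IsAffineOpen.isoSpec_hom_fromSpec_assoc, ← Category.assoc]
      exact (ι_inclX x (p := p) (V W)).symm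
    have h2 := congr($h1 t)
    rw [← Scheme.Hom.app_eq_appLE] at h2
    exact h2
  have hθres : ∀ (W W' : T.total.affineOpens) (h : W.1 ≤ W'.1),
      θ W' ≫ res x p (show (V W).1 ≤ (V W').1 from T.i.preimage_mono h) = T.total.presheaf.map (homOfLE h).op ≫ θ W := by
    intro W W' h
    apply Spec.map_injective
    rw [← cancel_mono W'.2.fromSpec, Spec.map_comp (θ W'), Spec.map_comp (T.total.presheaf.map _) (θ W),
      Category.assoc, Category.assoc, hθ,
      W'.2.map_fromSpec W.2 (homOfLE h).op, hθ]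
    exact piece_w x _
  have hθα : ∀ (W : T.total.affineOpens) (a : TrivSqZeroExt k (Fin 1 → k)),
      θ W (strMap T.f W.1 a) = α x hip (V W).1 a := by
    intro W a
    have h1 : CommRingCat.ofHom (strMap T.f W.1) ≫ θ W = α x hip (V W).1 := by
      apply Spec.map_injective
      have hstr : Spec.map (CommRingCat.ofHom (strMap T.f W.1)) = W.2.fromSpec ≫ T.f := by
        rw [← IsAffineOpen.SpecMap_appLE_fromSpec T.f (isAffineOpen_top _) W.2 (top_le_preimage T.f W.1),
          IsAffineOpen.fromSpec_top, Scheme.isoSpec_Spec_inv, ← Spec.map_comp]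
        rfl
      rw [Spec.map_comp, hstr, reassoc_of% (hθ W)]
      exact piece_toBaseW x hip (V W)
    exact congr($h1 a)
  exact ⟨{
    δ := fun W => AddMonoidHom.mk' (fun t => (θ W t).1.snd) fun a b => by rw [map_add]; rfl
    nat := fun W W' h t => by
      show (θ W (T.total.presheaf.map _ t)).1.snd = E.presheaf.map _ (θ W' t).1.snd
      rw [← res_snd x p (show (V W).1 ≤ (V W').1 from T.i.preimage_mono h)]
      exact congrArg (fun z : R x p (V W).1 => z.1.snd) (congr($(hθres W W' h) t)).symm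
    mul := fun W a b => by
      show (θ W (a * b)).1.snd = T.i.app W.1 a • (θ W b).1.snd + T.i.app W.1 b • (θ W a).1.snd
      rw [map_mul]
      show ((θ W a).1 * (θ W b).1).snd = _
      rw [TrivSqZeroExt.snd_mul, op_smul_eq_smul, hθπ, hθπ]
    const := fun W c => by
      show (θ W (strMap T.f W.1 (algebraMap k (artW k k 1) c))).1.snd = 0
      rw [show θ W (strMap T.f W.1 (algebraMap k (artW k k 1) c)) =
        α x hip (V W).1 (algebraMap k (TrivSqZeroExt k (Fin 1 → k)) c) from hθα W _]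
      simp [α, TrivSqZeroExt.algebraMap_eq_inl]
    at_eps := fun W => by
      show (θ W (strMap T.f W.1 (eE k))).1.snd = _
      rw [show θ W (strMap T.f W.1 (eE k)) = α x hip (V W).1 (eps1 k) from hθα W _, α_eps]
      simp [incl]
      rfl
    comm := fun W t => ((θ W t).2).trans (congrArg _ (hθπ W t)) }⟩

end Total

/-- Transport data along an isomorphism of deformations. -/
theorem ExtData.nonempty_comap {ξ' : DefSch X x (artW k k 1)} (d : ExtData ξ ι p) (e : ξ.Iso ξ') :
    Nonempty (ExtData ξ' ι p) := by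
  let g : ξ'.total ⟶ ξ.total := e.symm.iso.hom
  have hgf : g ≫ ξ.f = ξ'.f := e.symm.hom_f
  have hgi : ξ'.i ≫ g = ξ.i := e.symm.i_hom
  have hpre : ∀ W' : ξ'.total.Opens, ξ'.i ⁻¹ᵁ W' ≤ ξ.i ⁻¹ᵁ (e.iso.hom ⁻¹ᵁ W') := fun W' z hz => by
    show (ξ.i ≫ e.iso.hom) z ∈ W'
    rw [e.i_hom]; exact hz
  let W : ξ'.total.affineOpens → ξ.total.affineOpens := fun W' => ⟨e.iso.hom ⁻¹ᵁ W'.1, W'.2.preimage_of_isIso _⟩
  let φ : ∀ W' : ξ'.total.affineOpens, Γ(ξ'.total, W'.1) →+* Γ(ξ.total, (W W').1) := fun W' =>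
    (e.iso.hom.app W'.1).hom
  have hφi : ∀ (W' : ξ'.total.affineOpens) t,
      X.presheaf.map (homOfLE (hpre W'.1)).op (ξ.i.app (W W').1 (φ W' t)) = ξ'.i.app W'.1 t := by
    intro W' t
    show ξ.i.appLE (W W').1 (ξ'.i ⁻¹ᵁ W'.1) (hpre W'.1) (e.iso.hom.app W'.1 t) = _
    rw [Scheme.Hom.app_eq_appLE, Scheme.Hom.app_eq_appLE, ← CommRingCat.comp_apply, Scheme.Hom.appLE_comp_appLE]
    simp only [e.i_hom]
  have hφs : ∀ (W' : ξ'.total.affineOpens) (a : artW k k 1),
      φ W' (strMap ξ'.f W'.1 a) = strMap ξ.f (W W').1 a := by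
    intro W' a
    show e.iso.hom.app W'.1 (strMap ξ'.f W'.1 a) = _
    rw [Scheme.Hom.app_eq_appLE]
    show (ξ'.f.appLE ⊤ W'.1 _ ≫ e.iso.hom.appLE W'.1 _ _) ((Scheme.ΓSpecIso (CommRingCat.of (artW k k 1))).inv a) = _
    rw [Scheme.Hom.appLE_comp_appLE]
    simp only [e.hom_f]
    rfl
  exact ⟨{
    δ := fun W' => (E.presheaf.map (homOfLE (hpre W'.1)).op).hom.comp ((d.δ (W W')).comp (φ W').toAddMonoidHom)
    nat := fun W₁ W₂ h t => by
      show E.presheaf.map _ (d.δ (W W₁) (φ W₁ (ξ'.total.presheaf.map _ t))) = _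
      rw [show φ W₁ (ξ'.total.presheaf.map (homOfLE h).op t) =
        ξ.total.presheaf.map (homOfLE (e.iso.hom.preimage_mono h)).op (φ W₂ t) from
          congr($(e.iso.hom.naturality (homOfLE h).op) t), d.nat (W W₁) (W W₂) (e.iso.hom.preimage_mono h)]
      exact (congr($(E.presheaf.map_comp (homOfLE (ξ.i.preimage_mono (e.iso.hom.preimage_mono h))).op
        (homOfLE (hpre W₁.1)).op) _)).symm.trans
        (congr($(E.presheaf.map_comp (homOfLE (hpre W₂.1)).op (homOfLE (ξ'.i.preimage_mono h)).op) _))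
    mul := fun W' a b => by
      show E.presheaf.map _ (d.δ (W W') (φ W' (a * b))) = _
      rw [map_mul, d.mul, map_add, Scheme.Modules.map_smul, Scheme.Modules.map_smul, hφi, hφi]
      rfl
    const := fun W' c => by
      show E.presheaf.map _ (d.δ (W W') (φ W' _)) = 0
      rw [hφs, d.const, map_zero]
    at_eps := fun W' => by
      show E.presheaf.map _ (d.δ (W W') (φ W' (strMap ξ'.f W'.1 (eE k)))) = _
      rw [hφs, show d.δ (W W') (strMap ξ.f (W W').1 (eE k)) = ι.app _ (1 : Γ(X, ξ.i ⁻¹ᵁ (W W').1)) from d.at_eps (W W'), ι_res, map_one]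
    comm := fun W' t => by
      refine (congr($(p.mapPresheaf.naturality (homOfLE (hpre W'.1)).op) (d.δ (W W') (φ W' t)))).trans ?_
      show (Omega.sheaf x).presheaf.map _ (p.app _ (d.δ (W W') (φ W' t))) = _
      rw [d.comm, ← OmegaLib.app_map (OmegaSh.dOmega x) (hpre W'.1), hφi] }⟩

end Groth.Agent.DefFin29
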