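import Groth.Prelude.Def_Omega4
import Groth.Agent.OmegaLib.Der
import Groth.Agent.ArtGlobal29.Basic
import Groth.Agent.Coherent.QcohLocal
import Groth.Agent.QCohLoc.Unit
import Groth.Agent.CotTLib.Exal
import Mathlib

/-!
# The first order deformation attached to an extension of the differentials by the structure sheaf

For `0 → O_X → E → Ω → 0` the rings are `{(f, e) | p e = d f}`.
-/

set_option autoImplicit false
set_option backward.isDefEq.respectTransparency.types false
set_option backward.isDefEq.respectTransparency false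
set_option linter.style.haveILetI false
set_option maxHeartbeats 800000
universe u

open CategoryTheory CategoryTheory.Limits AlgebraicGeometry TopologicalSpace Opposite
open Groth.Agent.ArtGlobal29
open scoped TrivSqZeroExt TensorProduct

attribute [local instance 50] Exal.opModule Exal.isCentralScalar_opModule

noncomputable section

namespace Groth.Agent.DefFin29.ExtDeform

variable {k : Type u} [Field k] {X : Scheme.{u}} (x : X ⟶ Spec (CommRingCat.of k))
  [QuasiSeparated x] {E : X.Modules} (ι : Coh.structureModule X ⟶ E) (p : E ⟶ Omega.sheaf x)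

/-- The sections of the sheaf of rings of the deformation. -/
def Rsub (U : X.Opens) : Subring (TrivSqZeroExt Γ(X, U) Γ(E, U)) where
  carrier := {z | p.app U z.snd = (OmegaSh.dOmega x).app U z.fst}
  zero_mem' := by
    show p.app U (0 : TrivSqZeroExt Γ(X, U) Γ(E, U)).snd = _
    rw [TrivSqZeroExt.snd_zero, TrivSqZeroExt.fst_zero, map_zero, map_zero]
  one_mem' := by
    show p.app U (1 : TrivSqZeroExt Γ(X, U) Γ(E, U)).snd = _
    rw [TrivSqZeroExt.snd_one, TrivSqZeroExt.fst_one, map_zero, OmegaLib.app_one]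
  add_mem' {a b} (ha hb) := by
    show p.app U (a + b).snd = _
    rw [TrivSqZeroExt.snd_add, TrivSqZeroExt.fst_add, map_add, map_add, ha, hb]
  neg_mem' {a} (ha) := by
    show p.app U (-a).snd = _
    rw [TrivSqZeroExt.snd_neg, TrivSqZeroExt.fst_neg, map_neg, map_neg, ha]
  mul_mem' {a b} (ha hb) := by
    show p.app U (a * b).snd = _
    rw [TrivSqZeroExt.snd_mul, TrivSqZeroExt.fst_mul, op_smul_eq_smul, map_add, Scheme.Modules.Hom.app_smul,
      Scheme.Modules.Hom.app_smul, ha, hb, OmegaLib.app_mul]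

abbrev R (U : X.Opens) : CommRingCat.{u} := CommRingCat.of (Rsub x p U)

/-- Reduction. -/
def π (U : X.Opens) : R x p U ⟶ Γ(X, U) := CommRingCat.ofHom
  ((TrivSqZeroExt.fstHom Γ(X, U) Γ(X, U) Γ(E, U)).toRingHom.comp (Rsub x p U).subtype)

theorem π_apply (U : X.Opens) (z : Rsub x p U) : π x p U z = z.1.fst := rfl

/-- Restriction. -/
def res {U V : X.Opens} (h : V ≤ U) : R x p U ⟶ R x p V := CommRingCat.ofHom
  { toFun := fun z => ⟨TrivSqZeroExt.inl (X.presheaf.map (homOfLE h).op z.1.fst) +
        TrivSqZeroExt.inr (E.presheaf.map (homOfLE h).op z.1.snd), by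
      show p.app V _ = (OmegaSh.dOmega x).app V _
      rw [TrivSqZeroExt.snd_add, TrivSqZeroExt.snd_inl, TrivSqZeroExt.snd_inr, zero_add, TrivSqZeroExt.fst_add,
        TrivSqZeroExt.fst_inl, TrivSqZeroExt.fst_inr, add_zero, OmegaLib.app_map _ h, ← z.2]
      exact congr($(p.mapPresheaf.naturality (homOfLE h).op) z.1.snd)⟩
    map_one' := Subtype.ext (TrivSqZeroExt.ext (by simp) (by simp))
    map_zero' := Subtype.ext (TrivSqZeroExt.ext (by simp) (by simp))
    map_add' := fun a b => Subtype.ext (TrivSqZeroExt.ext (by simp) (by simp))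
    map_mul' := fun a b => Subtype.ext (TrivSqZeroExt.ext (by simp)
      (by simp [Scheme.Modules.map_smul, op_smul_eq_smul])) }

theorem res_fst {U V : X.Opens} (h : V ≤ U) (z : Rsub x p U) :
    (res x p h z).1.fst = X.presheaf.map (homOfLE h).op z.1.fst := by
  show (TrivSqZeroExt.inl _ + TrivSqZeroExt.inr _ : TrivSqZeroExt Γ(X, V) Γ(E, V)).fst = _
  simp

theorem res_snd {U V : X.Opens} (h : V ≤ U) (z : Rsub x p U) :
    (res x p h z).1.snd = E.presheaf.map (homOfLE h).op z.1.snd := by
  show (TrivSqZeroExt.inl _ + TrivSqZeroExt.inr _ : TrivSqZeroExt Γ(X, V) Γ(E, V)).snd = _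
  simp

theorem res_self (U : X.Opens) (h : U ≤ U) : res x p h = 𝟙 _ := by
  refine CommRingCat.hom_ext (RingHom.ext fun z => Subtype.ext (TrivSqZeroExt.ext ?_ ?_))
  · rw [res_fst]; exact congr($(X.presheaf.map_id (op U)) z.1.fst)
  · rw [res_snd]; exact congr($(E.presheaf.map_id (op U)) z.1.snd)

theorem res_comp {U V W : X.Opens} (h : V ≤ U) (h' : W ≤ V) :
    res x p h ≫ res x p h' = res x p (h'.trans h) := by
  refine CommRingCat.hom_ext (RingHom.ext fun z => Subtype.ext (TrivSqZeroExt.ext ?_ ?_))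
  · show (res x p h' (res x p h z)).1.fst = _
    rw [res_fst, res_fst, res_fst]
    exact (congr($(X.presheaf.map_comp (homOfLE h).op (homOfLE h').op) z.1.fst)).symm
  · show (res x p h' (res x p h z)).1.snd = _
    rw [res_snd, res_snd, res_snd]
    exact (congr($(E.presheaf.map_comp (homOfLE h).op (homOfLE h').op) z.1.snd)).symm

theorem res_π {U V : X.Opens} (h : V ≤ U) :
    res x p h ≫ π x p V = π x p U ≫ X.presheaf.map (homOfLE h).op :=
  CommRingCat.hom_ext (RingHom.ext fun z => res_fst x p h z)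

variable {ι p} (hip : ι ≫ p = 0) (hS : (ShortComplex.mk ι p hip).ShortExact)

include hip in
theorem p_ι (U : X.Opens) (g : Γ(X, U)) : p.app U (ι.app U g) = 0 :=
  Coherent.sections_zero (S := ShortComplex.mk ι p hip) U g

theorem ι_res {U V : X.Opens} (h : V ≤ U) (g : Γ(X, U)) :
    E.presheaf.map (homOfLE h).op (ι.app U g) = ι.app V (X.presheaf.map (homOfLE h).op g) :=
  (congr($(ι.mapPresheaf.naturality (homOfLE h).op) g)).symm

theorem ι_smul {U : X.Opens} (a g : Γ(X, U)) : a • ι.app U g = ι.app U (a * g) :=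
  (Scheme.Modules.Hom.app_smul (M := Coh.structureModule X) ι a g).symm

/-- The kernel of the reduction. -/
def incl (U : X.Opens) (g : Γ(X, U)) : R x p U :=
  ⟨TrivSqZeroExt.inr (ι.app U g), by
    show p.app U _ = (OmegaSh.dOmega x).app U _
    rw [TrivSqZeroExt.snd_inr, TrivSqZeroExt.fst_inr, map_zero]
    exact p_ι x hip U g⟩

theorem res_incl {U V : X.Opens} (h : V ≤ U) (g : Γ(X, U)) :
    res x p h (incl x hip U g) = incl x hip V (X.presheaf.map (homOfLE h).op g) := by
  refine Subtype.ext (TrivSqZeroExt.ext ?_ ?_)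
  · rw [res_fst]; simp [incl]
  · rw [res_snd]; simp [incl]; exact ι_res h g

theorem mul_incl (U : X.Opens) (z : R x p U) (g : Γ(X, U)) :
    z * incl x hip U g = incl x hip U (π x p U z * g) := by
  refine Subtype.ext (TrivSqZeroExt.ext ?_ ?_)
  · simp [incl]
  · simp [incl, π_apply]; exact ι_smul _ _

include hS in
theorem exists_incl_of_π_eq_zero (U : X.Opens) (z : R x p U) (h : π x p U z = 0) :
    ∃ g, incl x hip U g = z := by
  obtain ⟨g, hg⟩ := Coherent.sections_exact hS z.1.snd (by
    refine (z.2).trans ?_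
    rw [show z.1.fst = 0 from h, map_zero])
  exact ⟨g, Subtype.ext (TrivSqZeroExt.ext (by simp [incl]; exact h.symm) (by simpa [incl] using hg))⟩

include hS in
theorem surjective_π {U : X.Opens} (hU : IsAffineOpen U) : Function.Surjective (π x p U) := by
  intro f
  haveI : Coh.IsQCoh (ShortComplex.mk ι p hip).X₁ := QCohLoc.isQCoh_structureModule X
  obtain ⟨e, he⟩ := Coherent.sections_surjective hS hU ((OmegaSh.dOmega x).app U f)
  refine ⟨⟨TrivSqZeroExt.inl f + TrivSqZeroExt.inr e, ?_⟩, ?_⟩
  · show p.app U _ = _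
    simpa using he
  · rw [π_apply]; simp

theorem pow_incl_res {U : X.Opens} (b : R x p U) {f : Γ(X, U)} (hb : π x p U b = f) (m : ℕ) (g : Γ(X, U)) :
    b ^ m * incl x hip U g = incl x hip U (f ^ m * g) := by
  rw [mul_incl, map_pow, hb]

include hS in
/-- Sections on a basic open are a localisation. -/
theorem isLocalization {U : X.Opens} (hU : IsAffineOpen U) (f : Γ(X, U)) (b : R x p U) (hb : π x p U b = f) :
    @IsLocalization.Away _ _ b (R x p (X.basicOpen f)) _ (res x p (X.basicOpen_le f)).hom.toAlgebra := by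
  let D := X.basicOpen f
  let r := res x p (X.basicOpen_le f)
  let ρ := X.presheaf.map (homOfLE (X.basicOpen_le f)).op
  haveI := hU.isLocalization_basicOpen f
  have hρ : ∀ t : Γ(X, U), algebraMap Γ(X, U) Γ(X, D) t = ρ t := fun t => rfl
  letI := r.hom.toAlgebra
  have hunit : IsUnit (r b) := by
    obtain ⟨c, hc⟩ := (IsLocalization.Away.algebraMap_isUnit (S := Γ(X, D)) f).exists_right_inv
    have hbf : (r b).1.fst = algebraMap Γ(X, U) Γ(X, D) f := (res_fst x p _ b).trans ((congrArg ρ hb).trans (hρ f).symm)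
    obtain ⟨w, hw⟩ := surjective_π x hip hS (hU.basicOpen f) c
    have h1 : π x p D (r b * w - 1) = 0 := by
      rw [map_sub, map_mul, map_one, hw, π_apply, hbf, hc, sub_self]
    obtain ⟨g, hg⟩ := exists_incl_of_π_eq_zero x hip hS D _ h1
    refine IsUnit.of_mul_eq_one (w * (1 - incl x hip D g)) ?_
    have hgg : incl x hip D g * incl x hip D g = 0 := by
      rw [mul_incl, show π x p D (incl x hip D g) = 0 from TrivSqZeroExt.fst_inr Γ(X, D) (ι.app D g), zero_mul]
      exact Subtype.ext (by simp [incl])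
    linear_combination (incl x hip D g - 1) * hg - hgg
  refine IsLocalization.Away.mk b hunit (fun z => ?_) fun a a' h => ?_
  · obtain ⟨n, f₀, hf₀⟩ := IsLocalization.Away.surj f (π x p D z)
    obtain ⟨w, hw⟩ := surjective_π x hip hS hU f₀
    have h1 : π x p D (z * r b ^ n - r w) = 0 := by
      rw [map_sub, map_mul, map_pow, show π x p D (r b) = ρ f from (res_fst x p _ b).trans (congrArg ρ hb),
        show π x p D (r w) = ρ f₀ from (res_fst x p _ w).trans (congrArg ρ hw), ← hρ, hf₀, hρ, sub_self]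
    obtain ⟨g, hg⟩ := exists_incl_of_π_eq_zero x hip hS D _ h1
    obtain ⟨m, g₀, hg₀⟩ := IsLocalization.Away.surj f g
    refine ⟨n + m, w * b ^ m + incl x hip U g₀, ?_⟩
    show z * r b ^ (n + m) = r (w * b ^ m + incl x hip U g₀)
    have h2 : incl x hip D g * r b ^ m = incl x hip D (ρ g₀) := by
      rw [mul_comm, mul_incl, map_pow, show π x p D (r b) = ρ f from (res_fst x p _ b).trans (congrArg ρ hb),
        mul_comm, ← hρ, ← hρ, hg₀]
    rw [map_add, map_mul, map_pow, res_incl, ← h2, hg, pow_add]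
    ring
  · have h1 : ρ (π x p U a) = ρ (π x p U a') := by
      rw [← CommRingCat.comp_apply, ← CommRingCat.comp_apply, ← res_π]
      exact congrArg (π x p D) h
    obtain ⟨n, hn⟩ := IsLocalization.Away.exists_of_eq (S := Γ(X, D)) f h1
    obtain ⟨g, hg⟩ := exists_incl_of_π_eq_zero x hip hS U (b ^ n * a - b ^ n * a') (by
      rw [map_sub, map_mul, map_mul, map_pow, hb, hn, sub_self])
    have h2 : ρ g = ρ 0 := by
      have h3 : incl x hip D (ρ g) = 0 := by
        rw [← res_incl, hg, map_sub, map_mul, map_mul, show r a = r a' from h, sub_self]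
      have h4 : ι.app D (ρ g) = ι.app D 0 := by
        have := congrArg (fun z : R x p D => z.1.snd) h3
        rw [map_zero]
        simpa [incl] using this
      rw [map_zero]
      exact Coherent.sections_injective hS D h4
    obtain ⟨m, hm⟩ := IsLocalization.Away.exists_of_eq (S := Γ(X, D)) f h2
    refine ⟨m + n, ?_⟩
    have h5 : b ^ m * (b ^ n * a - b ^ n * a') = 0 := by
      rw [← hg, pow_incl_res x hip b hb, hm, mul_zero]
      exact Subtype.ext (by simp [incl])
    rw [pow_add]
    linear_combination h5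

include hip in
theorem snd_incl_one_smul (U : X.Opens) (c : k) :
    p.app U (strMap x U c • ι.app U (1 : Γ(X, U))) = 0 := by
  rw [Scheme.Modules.Hom.app_smul, p_ι x hip, smul_zero]

/-- The generator of the maximal ideal of `k[W]`, `W = k`. -/
abbrev eps1 (k : Type u) [Field k] : TrivSqZeroExt k (Fin 1 → k) := TrivSqZeroExt.inr fun _ => 1

/-- The structure map from `k[W]`, `W = k`. -/
def α (U : X.Opens) : CommRingCat.of (TrivSqZeroExt k (Fin 1 → k)) ⟶ R x p U := CommRingCat.ofHom
  { toFun := fun a => ⟨TrivSqZeroExt.inl (strMap x U a.fst) +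
        TrivSqZeroExt.inr (strMap x U (a.snd 0) • ι.app U (1 : Γ(X, U))), by
      show p.app U _ = (OmegaSh.dOmega x).app U _
      simp only [TrivSqZeroExt.snd_add, TrivSqZeroExt.snd_inl, TrivSqZeroExt.snd_inr, zero_add, TrivSqZeroExt.fst_add,
        TrivSqZeroExt.fst_inl, TrivSqZeroExt.fst_inr, add_zero]
      rw [snd_incl_one_smul x hip]
      exact (OmegaLib.app_appLE (OmegaSh.dOmega x) (top_le_preimage x U) _).symm⟩
    map_one' := Subtype.ext (TrivSqZeroExt.ext (by simp) (by simp))
    map_zero' := Subtype.ext (TrivSqZeroExt.ext (by simp) (by simp))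
    map_add' := fun a b => Subtype.ext (TrivSqZeroExt.ext (by simp) (by simp [add_smul]))
    map_mul' := fun a b => Subtype.ext (TrivSqZeroExt.ext (by simp)
      (by simp [op_smul_eq_smul, add_smul, smul_smul])) }

theorem α_res {U V : X.Opens} (h : V ≤ U) : α x hip U ≫ res x p h = α x hip V := by
  refine CommRingCat.hom_ext (RingHom.ext fun a => Subtype.ext (TrivSqZeroExt.ext ?_ ?_))
  · show (res x p h (α x hip U a)).1.fst = _
    rw [res_fst]
    simp [α, res_strMap]
  · show (res x p h (α x hip U a)).1.snd = _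
    rw [res_snd]
    simp [α, Scheme.Modules.map_smul, res_strMap, ι_res]

theorem α_π (U : X.Opens) :
    α x hip U ≫ π x p U = CommRingCat.ofHom ((strMap x U).comp (TrivSqZeroExt.fstHom k k (Fin 1 → k)).toRingHom) := by
  refine CommRingCat.hom_ext (RingHom.ext fun a => ?_)
  show ((α x hip U a).1).fst = strMap x U a.fst
  simp [α]

theorem α_eps (U : X.Opens) : α x hip U (eps1 k) = incl x hip U 1 := by
  refine Subtype.ext (TrivSqZeroExt.ext ?_ ?_)
  · simp [α, incl]
  · simp [α, incl]

include hS in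
theorem isPushout {U : X.Opens} (hU : IsAffineOpen U) :
    IsPushout (α x hip U) (CommRingCat.ofHom (TrivSqZeroExt.fstHom k k (Fin 1 → k)).toRingHom) (π x p U)
      (CommRingCat.ofHom (strMap x U)) := by
  have w : α x hip U ≫ π x p U =
      CommRingCat.ofHom (TrivSqZeroExt.fstHom k k (Fin 1 → k)).toRingHom ≫ CommRingCat.ofHom (strMap x U) := α_π x hip U
  refine ⟨⟨w⟩, ⟨PushoutCocone.IsColimit.mk w
    (fun s => CommRingCat.ofHom (RingHom.liftOfSurjective (π x p U).hom (surjective_π x hip hS hU)
      ⟨s.inl.hom, fun z hz => ?_⟩)) (fun s => ?_) (fun s => ?_) fun s m h₁ h₂ => ?_⟩⟩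
  · obtain ⟨g, rfl⟩ := exists_incl_of_π_eq_zero x hip hS U z hz
    obtain ⟨w', rfl⟩ := surjective_π x hip hS hU g
    rw [RingHom.mem_ker, ← mul_one (π x p U w'), ← mul_incl, map_mul, ← α_eps]
    have := congr($(s.condition) (eps1 k))
    refine (congrArg (s.inl w' * ·) (this.trans ?_)).trans (mul_zero _)
    exact (congrArg s.inr (TrivSqZeroExt.fst_inr k (fun _ : Fin 1 => (1 : k)))).trans (map_zero _)
  · refine CommRingCat.hom_ext (RingHom.ext fun z => ?_)
    exact RingHom.liftOfSurjective_comp_apply _ _ _ z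
  · refine CommRingCat.hom_ext (RingHom.ext fun c => ?_)
    have h1 : π x p U (α x hip U (TrivSqZeroExt.inl c)) = strMap x U c :=
      congr($(α_π x hip U) (TrivSqZeroExt.inl c))
    show RingHom.liftOfSurjective _ _ _ (strMap x U c) = s.inr c
    rw [← h1]
    refine (RingHom.liftOfSurjective_comp_apply _ _ _ _).trans ?_
    exact congr($(s.condition) (TrivSqZeroExt.inl c))
  · refine CommRingCat.hom_ext (RingHom.ext fun t => ?_)
    obtain ⟨z, rfl⟩ := surjective_π x hip hS hU t
    refine (ConcreteCategory.congr_hom h₁ z).trans ?_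
    symm
    exact RingHom.liftOfSurjective_comp_apply (π x p U).hom _ _ z

include hS in
theorem flat_α {U : X.Opens} (hU : IsAffineOpen U) : (α x hip U).hom.Flat := by
  letI : Algebra (TrivSqZeroExt k (Fin 1 → k)) (R x p U) := (α x hip U).hom.toAlgebra
  letI : Algebra k Γ(X, U) := (strMap x U).toAlgebra
  letI : Algebra k (R x p U) := ((α x hip U).hom.comp (algebraMap k (TrivSqZeroExt k (Fin 1 → k)))).toAlgebra
  haveI : IsScalarTower k (TrivSqZeroExt k (Fin 1 → k)) (R x p U) := ⟨fun c a v => by
    show α x hip U (c • a) * v = α x hip U (algebraMap k (TrivSqZeroExt k (Fin 1 → k)) c) * (α x hip U a * v)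
    rw [← mul_assoc, ← map_mul]
    congr 2
    exact TrivSqZeroExt.ext (by simp [TrivSqZeroExt.algebraMap_eq_inl]) (by simp [TrivSqZeroExt.algebraMap_eq_inl])⟩
  let q : R x p U →ₗ[k] Γ(X, U) :=
    { toFun := π x p U
      map_add' := map_add _
      map_smul' := fun c z => by
        show π x p U (α x hip U (algebraMap k (TrivSqZeroExt k (Fin 1 → k)) c) * z) = strMap x U c * π x p U z
        rw [map_mul]
        exact congrArg (· * _) (congr($(α_π x hip U) (algebraMap k (TrivSqZeroExt k (Fin 1 → k)) c))) }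
  obtain ⟨s, hs⟩ := q.exists_rightInverse_of_surjective (LinearMap.range_eq_top.2 (surjective_π x hip hS hU))
  have hs' : ∀ t, π x p U (s t) = t := fun t => LinearMap.congr_fun hs t
  haveI : SMulCommClass k (TrivSqZeroExt k (Fin 1 → k)) (TrivSqZeroExt k (Fin 1 → k)) :=
    ⟨fun c a b => TrivSqZeroExt.ext (by simp [mul_left_comm]) (by simp [← MulOpposite.op_mul, op_smul_eq_smul])⟩
  let Φ : (TrivSqZeroExt k (Fin 1 → k)) ⊗[k] Γ(X, U) →ₗ[TrivSqZeroExt k (Fin 1 → k)] R x p U :=
    LinearMap.liftBaseChange (TrivSqZeroExt k (Fin 1 → k)) s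
  have hval : ∀ (a : (TrivSqZeroExt k (Fin 1 → k))) (t : Γ(X, U)), Φ (a ⊗ₜ t) = α x hip U a * s t := fun a t =>
    LinearMap.liftBaseChange_tmul _ _ _ _
  have hε : ∀ t, α x hip U (eps1 k) * s t = incl x hip U t := fun t => by
    rw [α_eps, mul_comm, mul_incl, hs', mul_one]
  have hdec : ∀ v : (TrivSqZeroExt k (Fin 1 → k)) ⊗[k] Γ(X, U), ∃ a b,
      v = 1 ⊗ₜ a + eps1 k ⊗ₜ b := by
    intro v
    induction v using TensorProduct.induction_on with
    | zero => exact ⟨0, 0, by simp⟩
    | tmul c t =>
      refine ⟨c.fst • t, c.snd 0 • t, ?_⟩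
      rw [TensorProduct.tmul_smul, TensorProduct.tmul_smul, TensorProduct.smul_tmul', TensorProduct.smul_tmul',
        ← TensorProduct.add_tmul]
      congr 1
      exact TrivSqZeroExt.ext (by simp) (by simp; funext j; rw [Fin.eq_zero j]; simp)
    | add v w hv hw =>
      obtain ⟨a, b, rfl⟩ := hv
      obtain ⟨a', b', rfl⟩ := hw
      exact ⟨a + a', b + b', by rw [TensorProduct.tmul_add, TensorProduct.tmul_add]; abel⟩
  have hΦ : ∀ a b, Φ (1 ⊗ₜ a + eps1 k ⊗ₜ b) = s a + incl x hip U b := fun a b => by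
    rw [map_add, hval, hval, map_one, one_mul, hε]
  have hbij : Function.Bijective Φ := by
    constructor
    · rw [injective_iff_map_eq_zero]
      intro v hv
      obtain ⟨a, b, rfl⟩ := hdec v
      rw [hΦ] at hv
      have h1 : a = 0 := by
        have := congrArg (π x p U) hv
        rw [map_add, map_zero, hs', show π x p U (incl x hip U b) = 0 from TrivSqZeroExt.fst_inr Γ(X, U) (ι.app U b),
          add_zero] at this
        exact this
      subst h1
      rw [map_zero, zero_add] at hv
      have h2 : b = 0 := Coherent.sections_injective hS U (by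
        have := congrArg (fun z : R x p U => z.1.snd) hv
        rw [map_zero]
        simpa [incl] using this)
      rw [h2, TensorProduct.tmul_zero, TensorProduct.tmul_zero, add_zero]
    · intro z
      obtain ⟨b, hb⟩ := exists_incl_of_π_eq_zero x hip hS U (z - s (π x p U z)) (by rw [map_sub, hs', sub_self])
      exact ⟨1 ⊗ₜ π x p U z + eps1 k ⊗ₜ b, by rw [hΦ, hb, add_sub_cancel]⟩
  show Module.Flat (TrivSqZeroExt k (Fin 1 → k)) (R x p U)
  exact Module.Flat.of_linearEquiv (LinearEquiv.ofBijective Φ hbij).symm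

end Groth.Agent.DefFin29.ExtDeform
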