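import Groth.Agent.DefFin29.Derivation
import Groth.Agent.OmegaLib.DOmega
import Groth.Agent.Omega15.Compat
import Groth.Agent.Omega15.RetractSeq
import Groth.Agent.Thick15.OmegaPullback
import Groth.Agent.PrinLib.Order
import Groth.Agent.Coherent.FiniteType
import Groth.Agent.FlatMorThick.Topological
import Groth.Agent.S5005
import Mathlib.Algebra.Homology.DerivedCategory.Ext.ExactSequences

/-!
# First order deformations of smooth schemes without extensions of the differentials by the structure sheaf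
-/

set_option autoImplicit false
set_option backward.isDefEq.respectTransparency.types false
set_option backward.isDefEq.respectTransparency false
set_option linter.style.haveILetI false
set_option maxHeartbeats 800000
universe u

open CategoryTheory CategoryTheory.Limits AlgebraicGeometry TopologicalSpace Opposite IsLocalRing TensorProduct ArtFun
open Groth.Agent.ArtGlobal29 Groth.Agent.InfAut29 Groth.Agent.SemiExt29 Groth.Agent.OmegaLib
open Abelian (Ext)

noncomputable section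

namespace Groth.Agent.DefFin29

/-- `d e` generates a free submodule of the pulled back differentials of a square zero extension of a formally
smooth algebra by its own copy `e`. -/
theorem eq_zero_of_tmul_D {k R R₀ : Type u} [CommRing k] [CommRing R] [CommRing R₀] [Algebra k R] [Algebra k R₀]
    [Algebra R R₀] [IsScalarTower k R R₀] [Algebra.FormallySmooth k R₀]
    (hsurj : Function.Surjective (algebraMap R R₀)) (e : R) (he : e * e = 0) (he₀ : algebraMap R R₀ e = 0)
    (hker : ∀ t, algebraMap R R₀ t = 0 → ∃ g, t = e * g) (hann : ∀ g, e * g = 0 → algebraMap R R₀ g = 0)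
    (a : R₀) (ha : a ⊗ₜ[R] KaehlerDifferential.D k R e = 0) : a = 0 := by
  let π := IsScalarTower.toAlgHom k R R₀
  have hnil : IsNilpotent (RingHom.ker (π : R →+* R₀)) := by
    refine ⟨2, ?_⟩
    rw [Ideal.zero_eq_bot, eq_bot_iff, pow_two, Ideal.mul_le]
    intro s hs t ht
    obtain ⟨g, rfl⟩ := hker s hs
    obtain ⟨g', rfl⟩ := hker t ht
    rw [Submodule.mem_bot, mul_mul_mul_comm, he, zero_mul]
  let s₀ := Algebra.FormallySmooth.liftOfSurjective (AlgHom.id k R₀) π hsurj hnil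
  have hs₀ : ∀ r, algebraMap R R₀ (s₀ r) = r := fun r =>
    Algebra.FormallySmooth.liftOfSurjective_apply (AlgHom.id k R₀) π hsurj hnil r
  choose g hg using fun t : R => hker (t - s₀ (algebraMap R R₀ t)) (by rw [map_sub, hs₀, sub_self])
  have huniq : ∀ t g', t - s₀ (algebraMap R R₀ t) = e * g' → algebraMap R R₀ (g t) = algebraMap R R₀ g' := by
    intro t g' h
    rw [← sub_eq_zero, ← map_sub]
    exact hann _ (by rw [mul_sub, ← hg t, ← h, sub_self])
  let δ : Derivation k R R₀ := Derivation.mk'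
    { toFun := fun t => algebraMap R R₀ (g t)
      map_add' := fun t t' => by
        show algebraMap R R₀ (g (t + t')) = _
        rw [huniq (t + t') (g t + g t') (by rw [map_add, map_add, mul_add, ← hg, ← hg]; ring), map_add]
      map_smul' := fun c t => by
        show algebraMap R R₀ (g (c • t)) = c • algebraMap R R₀ (g t)
        rw [huniq (c • t) (c • g t) (by
          rw [mul_smul_comm, ← hg, smul_sub, show algebraMap R R₀ (c • t) = c • algebraMap R R₀ t from map_smul π c t,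
            map_smul])]
        exact map_smul π c (g t) }
    fun t t' => by
      show algebraMap R R₀ (g (t * t')) = t • algebraMap R R₀ (g t') + t' • algebraMap R R₀ (g t)
      rw [Algebra.smul_def, Algebra.smul_def, ← map_mul, ← map_mul, ← map_add]
      refine huniq _ _ ?_
      rw [map_mul, map_mul]
      linear_combination (s₀ (algebraMap R R₀ t')) * hg t + (t - e * g t) * hg t' - (g t * g t') * he
  have hδe : δ e = 1 := by
    show algebraMap R R₀ (g e) = 1
    rw [huniq e 1 (by rw [he₀, map_zero, sub_zero, mul_one]), map_one]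
  let L : R₀ ⊗[R] Ω[R⁄k] →ₗ[R₀] R₀ := δ.liftKaehlerDifferential.liftBaseChange R₀
  have := congrArg L ha
  rw [map_zero] at this
  simpa [L, hδe] using this

theorem exists_derM {k : Type u} [Field k] {X : Scheme.{u}} (f : X ⟶ Spec (CommRingCat.of k)) {ι : Type u}
    (B : ι → X.Opens) (hB : Opens.IsBasis (Set.range B)) (M : X.Modules)
    (δ : ∀ j, Γ(X, B j) →+ Γ(M, B j))
    (hnat : ∀ j j' (h : B j ≤ B j') (s : Γ(X, B j')), δ j (X.presheaf.map (homOfLE h).op s) =
      M.presheaf.map (homOfLE h).op (δ j' s))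
    (hmul : ∀ j (a b : Γ(X, B j)), δ j (a * b) = a • δ j b + b • δ j a)
    (hconst : ∀ j (c : k), δ j (strMap f (B j) c) = 0) :
    ∃ D : OmegaSh.Der f M, ∀ j (s : Γ(X, B j)), D.app (B j) s = δ j s := by
  let F : TopCat.Presheaf Ab.{u} X.toTopCat := X.presheaf ⋙ forget₂ CommRingCat RingCat ⋙ forget₂ RingCat Ab
  let G : TopCat.Sheaf Ab.{u} X.toTopCat := ⟨M.presheaf, M.isSheaf⟩
  let α : (inducedFunctor B).op ⋙ F ⟶ (inducedFunctor B).op ⋙ G.1 :=
    { app := fun j => AddCommGrpCat.ofHom (δ j.unop)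
      naturality := fun j j' g => by
        ext s
        exact hnat j'.unop j.unop (leOfHom ((inducedFunctor B).map g.unop)) s }
  let β := TopCat.Sheaf.restrictHomEquivHom F G hB α
  have hβ : ∀ j (s : Γ(X, B j)), (β.app (op (B j))).hom s = δ j s := fun j s => by
    show ((TopCat.Sheaf.restrictHomEquivHom F G hB α).app (op (B j))).hom s = _
    rw [TopCat.Sheaf.extend_hom_app]
    rfl
  have hmap : ∀ {U V : X.Opens} (h : U ≤ V) (s : Γ(X, V)), (β.app (op U)).hom (X.presheaf.map (homOfLE h).op s) =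
      M.presheaf.map (homOfLE h).op ((β.app (op V)).hom s) :=
    fun h s => ConcreteCategory.congr_hom (β.naturality (homOfLE h).op) s
  refine ⟨PresheafOfModules.Derivation.mk (fun {U} => (β.app U).hom) ?_ ?_ ?_, fun j s => hβ j s⟩
  · rintro ⟨U⟩ a b
    refine OmegaLib.section_ext (F := M) (U := U) fun y hy => ?_
    obtain ⟨_, ⟨j, rfl⟩, hyj, hjU⟩ := Opens.isBasis_iff_nbhd.mp hB hy
    refine ⟨B j, hjU, hyj, ?_⟩
    change M.presheaf.map (homOfLE hjU).op ((β.app (op U)).hom (a * b)) =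
      M.presheaf.map (homOfLE hjU).op
        ((a • (show Γ(M, U) from (β.app (op U)).hom b) : Γ(M, U)) + b • (show Γ(M, U) from (β.app (op U)).hom a))
    rw [map_add, Scheme.Modules.map_smul, Scheme.Modules.map_smul, ← hmap, ← hmap, ← hmap, map_mul, hβ, hβ, hβ, hmul]
  · intro U V g s
    exact ConcreteCategory.congr_hom (β.naturality g) s
  · rintro ⟨V⟩ c
    refine OmegaLib.section_ext (F := M) (U := f ⁻¹ᵁ V) fun y hy => ?_
    obtain rfl := eq_top_of_mem (show f y ∈ V from hy)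
    obtain ⟨_, ⟨j, rfl⟩, hyj, hjU⟩ := Opens.isBasis_iff_nbhd.mp hB hy
    refine ⟨B j, hjU, hyj, ?_⟩
    change M.presheaf.map (homOfLE hjU).op ((β.app (op (f ⁻¹ᵁ ⊤))).hom (f.app ⊤ c)) = _
    rw [← hmap, hβ, map_zero]
    have : X.presheaf.map (homOfLE hjU).op (f.app ⊤ c) =
        strMap f (B j) ((Scheme.ΓSpecIso (CommRingCat.of k)).hom c) := by
      show _ = (f.appLE ⊤ (B j) _) ((Scheme.ΓSpecIso (CommRingCat.of k)).inv ((Scheme.ΓSpecIso (CommRingCat.of k)).hom c))
      rw [← CommRingCat.comp_apply (Scheme.ΓSpecIso (CommRingCat.of k)).hom, Iso.hom_inv_id]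
      rfl
    rw [this, hconst]

/-- The generator of the maximal ideal of `k[W]` for `W = k`. -/
def eE (k : Type u) [Field k] : artW k k 1 :=
  (show TrivSqZeroExt k (Fin 1 → k) from TrivSqZeroExt.inr fun _ => 1)

theorem decomp_aux {k : Type u} [Field k] (a : TrivSqZeroExt k (Fin 1 → k)) :
    a = algebraMap k (TrivSqZeroExt k (Fin 1 → k)) a.fst +
      algebraMap k (TrivSqZeroExt k (Fin 1 → k)) (a.snd 0) * TrivSqZeroExt.inr (fun _ => 1) := by
  refine TrivSqZeroExt.ext ?_ (funext fun j => ?_)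
  · simp [TrivSqZeroExt.algebraMap_eq_inl]
  · rw [Fin.eq_zero j]
    simp [TrivSqZeroExt.algebraMap_eq_inl]

theorem decomp {k : Type u} [Field k] (a : artW k k 1) :
    a = algebraMap k (artW k k 1) ((artW k k 1).res a) +
      algebraMap k (artW k k 1) ((show TrivSqZeroExt k (Fin 1 → k) from a).snd 0) * eE k :=
  decomp_aux (show TrivSqZeroExt k (Fin 1 → k) from a)

theorem fst_eq_zero_of_mul {k : Type u} [Field k] (c : TrivSqZeroExt k (Fin 1 → k))
    (h : c * TrivSqZeroExt.inr (fun _ => (1 : k)) = 0) : c.fst = 0 := by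
  have h4 := congrArg (fun v : TrivSqZeroExt k (Fin 1 → k) => v.snd 0) h
  simpa [TrivSqZeroExt.snd_mul] using h4

theorem snd_eE_mul {k : Type u} [Field k] (c : artW k k 1) (h : c * eE k = 0) : c ∈ maximalIdeal (artW k k 1) :=
  mem_max_artW.2 (fst_eq_zero_of_mul (show TrivSqZeroExt k (Fin 1 → k) from c) h)

/-- The formally smooth local rings of a smooth scheme. -/
theorem formallySmooth_stalk {k : Type u} [Field k] {X : Scheme.{u}} (x : X ⟶ Spec (CommRingCat.of k)) [Smooth x]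
    (z : X) [Algebra Γ(Spec (CommRingCat.of k), ⊤) (X.presheaf.stalk z)]
    (hal : ∀ r, algebraMap Γ(Spec (CommRingCat.of k), ⊤) (X.presheaf.stalk z) r =
      x.stalkMap z ((Spec (CommRingCat.of k)).presheaf.germ ⊤ (x z) trivial r)) :
    Algebra.FormallySmooth Γ(Spec (CommRingCat.of k), ⊤) (X.presheaf.stalk z) := by
  obtain ⟨U, hU, hzU, -⟩ := Opens.isBasis_iff_nbhd.mp X.isBasis_affineOpens (Opens.mem_top z)
  letI := (x.appLE ⊤ U le_top).hom.toAlgebra
  haveI : Algebra.Smooth Γ(Spec (CommRingCat.of k), ⊤) Γ(X, U) := x.smooth_appLE (isAffineOpen_top _) hU le_top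
  letI := X.presheaf.algebra_section_stalk ⟨z, hzU⟩
  haveI := hU.isLocalization_stalk ⟨z, hzU⟩
  haveI : IsScalarTower Γ(Spec (CommRingCat.of k), ⊤) Γ(X, U) (X.presheaf.stalk z) :=
    IsScalarTower.of_algebraMap_eq fun r => by
      change _ = X.presheaf.germ U z hzU (x.appLE ⊤ U le_top r)
      rw [hal, Scheme.Hom.germ_stalkMap_apply, Scheme.Hom.appLE, CommRingCat.comp_apply]
      exact (X.presheaf.germ_res_apply _ z hzU _).symm
  haveI : Algebra.FormallySmooth Γ(X, U) (X.presheaf.stalk z) :=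
    Algebra.FormallySmooth.of_isLocalization (hU.primeIdealOf ⟨z, hzU⟩).asIdeal.primeCompl
  exact Algebra.FormallySmooth.comp Γ(Spec (CommRingCat.of k), ⊤) Γ(X, U) (X.presheaf.stalk z)

variable {k : Type u} [Field k] {X : Scheme.{u}} {x : X ⟶ Spec (CommRingCat.of k)}

variable (ξ : DefSch X x (artW k k 1))

/-- The structure map to the ground field. -/
abbrev sig : ξ.total ⟶ Spec (CommRingCat.of k) := ξ.f ≫ Art.specMap (Art.ofBase (artW k k 1))

theorem i_sig : ξ.i ≫ sig ξ = x := by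
  show ξ.i ≫ ξ.f ≫ Art.specMap (Art.ofBase (artW k k 1)) = x
  rw [reassoc_of% ξ.i_f, Art.specRes_comp]
  exact Art.comp_specRes_base x

instance quasiSeparated_sig [QuasiSeparated x] : QuasiSeparated (sig ξ) := by
  haveI : IsClosedImmersion ξ.i := InfAut29.isClosedImmersion_i (artW k k 1).res_surjective ξ.isPullback
  haveI : Surjective ξ.i := InfAut29.surjective_i ξ.isPullback
  haveI : QuasiSeparated (ξ.i ≫ sig ξ) := (i_sig ξ).symm ▸ ‹QuasiSeparated x›
  exact FlatMorThick.quasiSeparated_of_comp_surjective (g := ξ.i) (h := sig ξ)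

/-- The generator of the square zero ideal. -/
abbrev eps (U : ξ.total.Opens) : Γ(ξ.total, U) := strMap ξ.f U (eE k)

theorem eps_mul_eps (U : ξ.total.Opens) : eps ξ U * eps ξ U = 0 := by
  rw [← map_mul, show eE k * eE k = 0 from
    TrivSqZeroExt.inr_mul_inr k (fun _ : Fin 1 => (1 : k)) (fun _ => 1), map_zero]

theorem app_eps (U : ξ.total.Opens) : ξ.i.app U (eps ξ U) = 0 := by
  refine (i_app_strMap (artW k k 1).res_surjective ξ.isPullback U (eE k)).trans ?_
  exact (congrArg (strMap x _) (TrivSqZeroExt.fst_inr k (fun _ : Fin 1 => (1 : k)))).trans (map_zero _)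

theorem exists_eq_eps_mul (U : ξ.total.affineOpens) (t : Γ(ξ.total, U.1)) (ht : ξ.i.app U.1 t = 0) :
    ∃ g, t = eps ξ U.1 * g := by
  have hE : ∀ a : artW k k 1, (artW k k 1).res a = 0 →
      a = algebraMap k (artW k k 1) ((show TrivSqZeroExt k (Fin 1 → k) from a).snd 0) * eE k := by
    intro a ha
    conv_lhs => rw [decomp a]
    rw [show (artW k k 1).res a = 0 from ha, map_zero, zero_add]
  let A := artW k k 1
  let i := ξ.i
  let E : A := eE k
  let ε := eps ξ
  have ht' : t ∈ (maximalIdeal A).map (strMap ξ.f U.1) := (ker_i_app A.res_surjective ξ.isPullback U.2).le ht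
  refine Submodule.span_induction (p := fun y _ => ∃ g, y = ε U.1 * g) ?_ ⟨0, (mul_zero _).symm⟩ ?_ ?_ ht'
  · rintro _ ⟨a, ha, rfl⟩
    refine ⟨strMap ξ.f U.1 (algebraMap k A ((show TrivSqZeroExt k (Fin 1 → k) from a).snd 0)), ?_⟩
    show _ = strMap ξ.f U.1 E * _
    rw [← map_mul, mul_comm]
    exact congrArg _ (hE a (mem_max_artW.1 ha))
  · rintro _ _ _ _ ⟨g, rfl⟩ ⟨g', rfl⟩; exact ⟨g + g', (mul_add _ _ _).symm⟩
  · rintro r _ _ ⟨g, rfl⟩; exact ⟨r * g, mul_left_comm _ _ _⟩

theorem app_eq_zero_of_eps_mul (U : ξ.total.affineOpens) (g : Γ(ξ.total, U.1)) (hg : eps ξ U.1 * g = 0) :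
    ξ.i.app U.1 g = 0 := by
  let A := artW k k 1
  let Y := ξ.total
  let i := ξ.i
  let E : A := eE k
  letI : Algebra A Γ(Y, U.1) := (strMap ξ.f U.1).toAlgebra
  haveI : Module.Flat A Γ(Y, U.1) := flat_strMap ξ.f U.2
  have h3 := mem_map_of_mul_mem (J := (⊥ : Ideal A)) (e := E) (fun c hc => ?_) g (by rw [Ideal.map_bot]; exact hg)
  · exact RingHom.mem_ker.1 ((ker_i_app A.res_surjective ξ.isPullback U.2).ge h3)
  · rw [Ideal.mem_bot] at hc
    exact snd_eE_mul c hc

/-- The differentials of the total space, restricted. -/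
abbrev omegaPull : X.Modules := (Scheme.Modules.pullback ξ.i).obj (Omega.sheaf (sig ξ))

theorem pullSect_res {U V : ξ.total.Opens} (h : U ≤ V) (t : Γ(Omega.sheaf (sig ξ), V)) :
    (omegaPull ξ).presheaf.map (homOfLE (ξ.i.preimage_mono h)).op (OmegaSh.pullSect ξ.i (Omega.sheaf (sig ξ)) V t) =
      OmegaSh.pullSect ξ.i (Omega.sheaf (sig ξ)) U ((Omega.sheaf (sig ξ)).presheaf.map (homOfLE h).op t) :=
  (congr($((((Scheme.Modules.pullbackPushforwardAdjunction ξ.i).unit.app (Omega.sheaf (sig ξ)))).mapPresheaf.naturality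
    (homOfLE h).op) t)).symm

variable [QuasiSeparated x]

/-- `1 ↦ d ε`. -/
def sEps : Coh.structureModule X ⟶ omegaPull ξ :=
  Coherent.unitDesc (omegaPull ξ)
    (OmegaSh.pullSect ξ.i (Omega.sheaf (sig ξ)) ⊤ ((OmegaSh.dOmega (sig ξ)).app ⊤ (eps ξ ⊤)))

theorem sEps_app (U : ξ.total.Opens) (b : Γ(X, ξ.i ⁻¹ᵁ U)) :
    (sEps ξ).app (ξ.i ⁻¹ᵁ U) b =
      b • OmegaSh.pullSect ξ.i (Omega.sheaf (sig ξ)) U ((OmegaSh.dOmega (sig ξ)).app U (eps ξ U)) := by
  rw [sEps, Coherent.app_unit, Coherent.unitVal_unitDesc]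
  congr 1
  refine (pullSect_res ξ (le_top : U ≤ ⊤) _).trans (congrArg _ ?_)
  rw [← OmegaLib.app_map (OmegaSh.dOmega (sig ξ)) (le_top : U ≤ ⊤)]
  exact congrArg _ (res_strMap ξ.f le_top (eE k))

theorem mono_sEps [Smooth x] : Mono (sEps ξ) := by
  let A := artW k k 1
  let Y := ξ.total
  let i := ξ.i
  let σ := sig ξ
  have hσ : i ≫ σ = x := i_sig ξ
  haveI : IsClosedImmersion i := InfAut29.isClosedImmersion_i A.res_surjective ξ.isPullback
  haveI : Surjective i := InfAut29.surjective_i ξ.isPullback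
  haveI : QuasiSeparated σ := quasiSeparated_sig ξ
  let dY := OmegaSh.dOmega σ
  let dX := OmegaSh.dOmega x
  let Ω' := omegaPull ξ
  let E : A := eE k
  let ε := eps ξ
  let w : Γ(Ω', ⊤) := OmegaSh.pullSect i (Omega.sheaf σ) ⊤ (dY.app ⊤ (ε ⊤))
  let s : Coh.structureModule X ⟶ Ω' := sEps ξ
  have hs := sEps_app ξ
  have hnatP : ∀ {U V : Y.Opens} (h : U ≤ V) (t : Γ(Omega.sheaf σ, V)),
      Ω'.presheaf.map (homOfLE (i.preimage_mono h)).op (OmegaSh.pullSect i (Omega.sheaf σ) V t) =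
        OmegaSh.pullSect i (Omega.sheaf σ) U ((Omega.sheaf σ).presheaf.map (homOfLE h).op t) := pullSect_res ξ
  have hiε := app_eps ξ
  have hEE : E * E = 0 := TrivSqZeroExt.inr_mul_inr k (fun _ : Fin 1 => (1 : k)) (fun _ => 1)
  have hker := exists_eq_eps_mul ξ
  have hann := app_eq_zero_of_eps_mul ξ
  have hsinj : ∀ (W : X.Opens) (b : Γ(X, W)), s.app W b = 0 → b = 0 := by
    intro W b hb
    refine TopCat.Presheaf.section_ext X.sheaf W b 0 fun z hz => ?_
    refine Eq.trans ?_ (map_zero (X.presheaf.germ W z hz).hom).symm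
    let y := i z
    letI : Algebra (Y.presheaf.stalk y) (X.presheaf.stalk z) := (i.stalkMap z).hom.toAlgebra
    letI aR : Algebra Γ(Spec (CommRingCat.of k), ⊤) (Y.presheaf.stalk y) :=
      ((Spec (CommRingCat.of k)).presheaf.germ ⊤ (σ y) trivial ≫ σ.stalkMap y).hom.toAlgebra
    letI aR₀ : Algebra Γ(Spec (CommRingCat.of k), ⊤) (X.presheaf.stalk z) :=
      ((Spec (CommRingCat.of k)).presheaf.germ ⊤ (x z) trivial ≫ x.stalkMap z).hom.toAlgebra
    haveI : IsScalarTower Γ(Spec (CommRingCat.of k), ⊤) (Y.presheaf.stalk y) (X.presheaf.stalk z) :=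
      IsScalarTower.of_algebraMap_eq fun r => by
        change x.stalkMap z ((Spec (CommRingCat.of k)).presheaf.germ ⊤ (x z) trivial r) =
          i.stalkMap z (σ.stalkMap y ((Spec (CommRingCat.of k)).presheaf.germ ⊤ (σ y) trivial r))
        rw [Scheme.Hom.germ_stalkMap_apply, Scheme.Hom.germ_stalkMap_apply, Scheme.Hom.germ_stalkMap_apply,
          ← CommRingCat.comp_apply (σ.app ⊤), ← Scheme.Hom.comp_app]
        have key : ∀ {φ : X ⟶ Spec (CommRingCat.of k)} (_ : φ = x) (m : z ∈ φ ⁻¹ᵁ (⊤ : (Spec (CommRingCat.of k)).Opens)),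
            X.presheaf.germ _ z m (φ.app ⊤ r) = X.presheaf.germ (x ⁻¹ᵁ ⊤) z trivial (x.app ⊤ r) := by
          rintro φ rfl m; rfl
        exact (key hσ trivial).symm
    haveI := formallySmooth_stalk x z fun r => rfl
    obtain ⟨EK, hEK⟩ := OmegaLib.exists_omega_stalk_equiv σ (isAffineOpen_top _) y trivial fun r => rfl
    obtain ⟨EP, hEP⟩ := OmegaLib.exists_pullback_stalk_equiv i (Omega.sheaf σ) z
    let e : Y.presheaf.stalk y := Y.presheaf.germ ⊤ y trivial (ε ⊤)
    refine eq_zero_of_tmul_D (k := Γ(Spec (CommRingCat.of k), ⊤)) (R := Y.presheaf.stalk y)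
      (i.stalkMap_surjective z) e ?_ ?_ ?_ ?_ _ ?_
    · show Y.presheaf.germ ⊤ y trivial (ε ⊤) * Y.presheaf.germ ⊤ y trivial (ε ⊤) = 0
      rw [← map_mul, show ε ⊤ * ε ⊤ = 0 from (map_mul (strMap ξ.f ⊤) E E).symm.trans (by rw [hEE, map_zero]), map_zero]
    · show i.stalkMap z (Y.presheaf.germ ⊤ y trivial (ε ⊤)) = 0
      rw [Scheme.Hom.germ_stalkMap_apply, hiε, map_zero]
    · intro t ht
      obtain ⟨U, hyU, t, rfl⟩ := Y.presheaf.exists_germ_eq t
      change i.stalkMap z (Y.presheaf.germ U y hyU t) = 0 at ht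
      rw [Scheme.Hom.germ_stalkMap_apply] at ht
      obtain ⟨V, hzV, iV, iV', heq⟩ := X.presheaf.germ_eq (U := i ⁻¹ᵁ U) (V := i ⁻¹ᵁ U) z hyU hyU (i.app U t) 0 (ht.trans (map_zero _).symm)
      obtain ⟨O, hO, hOV⟩ := (IsClosedImmersion.base_closed (f := i)).isEmbedding.isInducing.isOpen_iff.1 V.isOpen
      obtain ⟨U', hU', hyU', hle⟩ := Opens.isBasis_iff_nbhd.mp Y.isBasis_affineOpens
        (show y ∈ U ⊓ ⟨O, hO⟩ from ⟨hyU, (congrArg (z ∈ ·) hOV).mpr hzV⟩)
      have hU'U : U' ≤ U := hle.trans inf_le_left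
      obtain ⟨g, hg⟩ := hker ⟨U', hU'⟩ (Y.presheaf.map (homOfLE hU'U).op t) (by
        rw [← CommRingCat.comp_apply, Scheme.Hom.naturality, CommRingCat.comp_apply]
        have hVle : i ⁻¹ᵁ U' ≤ V := fun w hw => (congrArg (w ∈ ·) hOV).mp (hle hw).2
        have := congrArg (X.presheaf.map (homOfLE hVle).op) heq
        rw [map_zero, map_zero, ← CommRingCat.comp_apply (X.presheaf.map iV.op), ← Functor.map_comp] at this
        exact this)
      refine ⟨Y.presheaf.germ U' y hyU' g, ?_⟩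
      rw [← Y.presheaf.germ_res_apply (homOfLE hU'U) y hyU' t, hg, map_mul]
      congr 1
      exact ((Y.presheaf.germ_res_apply (homOfLE (le_top : U' ≤ ⊤)) y hyU' (ε ⊤)).symm.trans
        (congrArg _ (res_strMap ξ.f le_top E))).symm
    · intro g hg
      obtain ⟨U, hyU, g, rfl⟩ := Y.presheaf.exists_germ_eq g
      rw [show e = Y.presheaf.germ U y hyU (ε U) from
        (Y.presheaf.germ_res_apply (homOfLE (le_top : U ≤ ⊤)) y hyU (ε ⊤)).symm.trans (congrArg _ (res_strMap ξ.f le_top E)),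
        ← map_mul] at hg
      obtain ⟨V, hyV, iV, iV', heq⟩ := Y.presheaf.germ_eq y hyU hyU _ 0 (hg.trans (map_zero _).symm)
      obtain ⟨U', hU', hyU', hle⟩ := Opens.isBasis_iff_nbhd.mp Y.isBasis_affineOpens hyV
      have h0 : i.app U' (Y.presheaf.map (homOfLE (hle.trans iV.le)).op g) = 0 := by
        refine hann ⟨U', hU'⟩ _ ?_
        have := congrArg (Y.presheaf.map (homOfLE hle).op) heq
        rw [map_zero, map_zero, ← CommRingCat.comp_apply (Y.presheaf.map iV.op), ← Functor.map_comp, map_mul] at this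
        show ε U' * _ = 0
        rw [show ε U' = Y.presheaf.map (homOfLE (hle.trans iV.le)).op (ε U) from (res_strMap ξ.f _ E).symm]
        exact this
      show i.stalkMap z (Y.presheaf.germ U y hyU g) = 0
      rw [← Y.presheaf.germ_res_apply (homOfLE (hle.trans iV.le)) y hyU' g, Scheme.Hom.germ_stalkMap_apply, h0, map_zero]
    · let eT := TensorProduct.AlgebraTensorModule.congr (LinearEquiv.refl (X.presheaf.stalk z) (X.presheaf.stalk z)) EK
      apply eT.injective
      apply EP.injective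
      rw [map_zero, map_zero]
      show EP (X.presheaf.germ W z hz b ⊗ₜ EK (KaehlerDifferential.D _ _ e)) = 0
      rw [hEK ⊤ trivial, ← mul_one (X.presheaf.germ W z hz b), ← smul_eq_mul, ← TensorProduct.smul_tmul', map_smul, hEP ⊤ trivial]
      have h0 := congrArg (gm Ω' W z hz) hb
      rw [show s = Coherent.unitDesc Ω' w from rfl, Coherent.app_unit, Coherent.unitVal_unitDesc, gm_smul, gm_zero] at h0
      exact (congrArg (_ • ·) (gm_res Ω' (U := ⊤) trivial le_top hz w).symm).trans h0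
  exact ⟨fun {Z} φ ψ hφ => Scheme.Modules.hom_ext _ _ fun W => by
    ext t
    refine sub_eq_zero.1 (hsinj W _ ?_)
    have h1 := congrArg (fun χ => Scheme.Modules.Hom.app χ W t) hφ
    simp only [Scheme.Modules.Hom.comp_app, CategoryTheory.comp_apply] at h1
    rw [map_sub, h1, sub_self]⟩

/-- The reduction of differentials. -/
def phi : omegaPull ξ ⟶ Omega.sheaf x :=
  (Omega15.existsUnique_compat ξ.i (𝟙 _) (f := sig ξ) (f' := x) (by rw [Category.comp_id, i_sig])
    (S5005.result (sig ξ)) (OmegaSh.dOmega x)).exists.choose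

theorem phi_spec (U : ξ.total.Opens) (t : Γ(ξ.total, U)) :
    (phi ξ).app (ξ.i ⁻¹ᵁ U) (OmegaSh.pullSect ξ.i (Omega.sheaf (sig ξ)) U ((OmegaSh.dOmega (sig ξ)).app U t)) =
      (OmegaSh.dOmega x).app (ξ.i ⁻¹ᵁ U) (ξ.i.app U t) :=
  (Omega15.existsUnique_compat ξ.i (𝟙 _) (f := sig ξ) (f' := x) (by rw [Category.comp_id, i_sig])
    (S5005.result (sig ξ)) (OmegaSh.dOmega x)).exists.choose_spec U t

theorem sEps_phi : sEps ξ ≫ phi ξ = 0 := by
  let A := artW k k 1
  let Y := ξ.total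
  let i := ξ.i
  let σ := sig ξ
  have hσ : i ≫ σ = x := i_sig ξ
  haveI : IsClosedImmersion i := InfAut29.isClosedImmersion_i A.res_surjective ξ.isPullback
  haveI : Surjective i := InfAut29.surjective_i ξ.isPullback
  haveI : QuasiSeparated σ := quasiSeparated_sig ξ
  let dY := OmegaSh.dOmega σ
  let dX := OmegaSh.dOmega x
  let Ω' := omegaPull ξ
  let E : A := eE k
  let ε := eps ξ
  let w : Γ(Ω', ⊤) := OmegaSh.pullSect i (Omega.sheaf σ) ⊤ (dY.app ⊤ (ε ⊤))
  let s : Coh.structureModule X ⟶ Ω' := sEps ξ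
  have hs := sEps_app ξ
  have hnatP : ∀ {U V : Y.Opens} (h : U ≤ V) (t : Γ(Omega.sheaf σ, V)),
      Ω'.presheaf.map (homOfLE (i.preimage_mono h)).op (OmegaSh.pullSect i (Omega.sheaf σ) V t) =
        OmegaSh.pullSect i (Omega.sheaf σ) U ((Omega.sheaf σ).presheaf.map (homOfLE h).op t) := pullSect_res ξ
  have hiε := app_eps ξ
  let φ := phi ξ
  have hφ := phi_spec ξ
  refine Scheme.Modules.hom_ext _ _ fun W => ?_
  ext b
  show φ.app W (s.app W b) = 0
  rw [show s = Coherent.unitDesc Ω' w from rfl, Coherent.app_unit, Coherent.unitVal_unitDesc, Scheme.Modules.Hom.app_smul]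
  have h1 : φ.app ⊤ w = 0 := by
    refine (hφ ⊤ (ε ⊤)).trans ?_
    rw [hiε, map_zero]
  have h2 : φ.app W (Coherent.resM Ω' le_top w) = 0 := by
    refine (congr($(φ.mapPresheaf.naturality (homOfLE (le_top : W ≤ ⊤)).op) w)).trans ?_
    refine Eq.trans (congrArg ((Omega.sheaf x).presheaf.map (homOfLE (le_top : W ≤ ⊤)).op) h1) ?_
    exact map_zero _
  rw [h2, smul_zero]

/-- The conormal sequence of the reduction. -/
abbrev omegaSeq : ShortComplex X.Modules := ShortComplex.mk (sEps ξ) (phi ξ) (sEps_phi ξ)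

theorem omegaSeq_shortExact [Smooth x] : (omegaSeq ξ).ShortExact := by
  haveI := mono_sEps ξ
  let A := artW k k 1
  let Y := ξ.total
  let i := ξ.i
  let σ := sig ξ
  have hσ : i ≫ σ = x := i_sig ξ
  haveI : IsClosedImmersion i := InfAut29.isClosedImmersion_i A.res_surjective ξ.isPullback
  haveI : Surjective i := InfAut29.surjective_i ξ.isPullback
  haveI : QuasiSeparated σ := quasiSeparated_sig ξ
  let dY := OmegaSh.dOmega σ
  let dX := OmegaSh.dOmega x
  let Ω' := omegaPull ξ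
  let E : A := eE k
  let ε := eps ξ
  let w : Γ(Ω', ⊤) := OmegaSh.pullSect i (Omega.sheaf σ) ⊤ (dY.app ⊤ (ε ⊤))
  let s : Coh.structureModule X ⟶ Ω' := sEps ξ
  have hs := sEps_app ξ
  have hnatP : ∀ {U V : Y.Opens} (h : U ≤ V) (t : Γ(Omega.sheaf σ, V)),
      Ω'.presheaf.map (homOfLE (i.preimage_mono h)).op (OmegaSh.pullSect i (Omega.sheaf σ) V t) =
        OmegaSh.pullSect i (Omega.sheaf σ) U ((Omega.sheaf σ).presheaf.map (homOfLE h).op t) := pullSect_res ξ
  have hiε := app_eps ξ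
  let φ := phi ξ
  have hφ := phi_spec ξ
  have hsφ : s ≫ φ = 0 := sEps_phi ξ
  have hker := exists_eq_eps_mul ξ
  -- the splitting over the cokernel
  let q := cokernel.π s
  let V : Y.affineOpens → X.Opens := fun U => i ⁻¹ᵁ U.1
  have hbasis : Opens.IsBasis (Set.range V) := by
    rw [Opens.isBasis_iff_nbhd]
    intro W y hy
    obtain ⟨O, hO, hOW⟩ := (IsClosedImmersion.base_closed (f := i)).isEmbedding.isInducing.isOpen_iff.1 W.isOpen
    have hyO : i y ∈ (⟨O, hO⟩ : Y.Opens) := by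
      exact (congrArg (y ∈ ·) hOW).mpr hy
    obtain ⟨U, hUa, hyU, hUO⟩ := Opens.isBasis_iff_nbhd.mp Y.isBasis_affineOpens hyO
    exact ⟨_, ⟨⟨U, hUa⟩, rfl⟩, hyU, fun z hz => (congrArg (z ∈ ·) hOW).mp (hUO hz)⟩
  let Q : ∀ U : Y.Opens, Γ(Y, U) →+ Γ(cokernel s, i ⁻¹ᵁ U) := fun U =>
    (q.app (i ⁻¹ᵁ U)).hom.comp ((OmegaSh.pullSect i (Omega.sheaf σ) U).hom.comp (dY.app U))
  have hqs : ∀ (W : X.Opens) b, q.app W (s.app W b) = 0 := fun W b => by
    have := congrArg (fun χ => Scheme.Modules.Hom.app χ W b) (cokernel.condition s)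
    exact this
  have hQmul : ∀ U a b, Q U (a * b) = i.app U a • Q U b + i.app U b • Q U a := by
    intro U a b
    show q.app _ (OmegaSh.pullSect i _ U (dY.app U (a * b))) = _
    rw [OmegaLib.app_mul, map_add, PrinLib.pullSect_smul, PrinLib.pullSect_smul, map_add, Scheme.Modules.Hom.app_smul,
      Scheme.Modules.Hom.app_smul]
    rfl
  have hQ₀ : ∀ (U : Y.affineOpens) t, i.app U.1 t = 0 → Q U.1 t = 0 := by
    intro U t ht
    obtain ⟨g, rfl⟩ := hker U t ht
    rw [hQmul, hiε, zero_smul, zero_add]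
    show i.app U.1 g • q.app _ (OmegaSh.pullSect i _ U.1 (dY.app U.1 (ε U.1))) = 0
    rw [← Scheme.Modules.Hom.app_smul, ← hs, hqs]
  have hsurj : ∀ U : Y.affineOpens, Function.Surjective (i.app U.1) := fun U => i.app_surjective U.1 U.2
  choose lift hlift using hsurj
  have hQwd : ∀ (U : Y.affineOpens) t, Q U.1 (lift U (i.app U.1 t)) = Q U.1 t := fun U t => by
    rw [← sub_eq_zero, ← map_sub]
    exact hQ₀ U _ (by rw [map_sub, hlift, sub_self])
  let δ : ∀ U : Y.affineOpens, Γ(X, V U) →+ Γ(cokernel s, V U) := fun U =>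
    AddMonoidHom.mk' (fun t => Q U.1 (lift U t)) fun t t' => by
      rw [← map_add, ← hQwd U (lift U t + lift U t')]
      simp only [map_add, hlift]
  have hδ : ∀ (U : Y.affineOpens) t, δ U (i.app U.1 t) = Q U.1 t := hQwd
  obtain ⟨D, hD⟩ := exists_derM x V hbasis (cokernel s) δ (fun U U' hUU t => by
      obtain ⟨t, rfl⟩ : ∃ t₀, i.app U'.1 t₀ = t := ⟨_, hlift U' t⟩
      have hle : U.1 ≤ U'.1 := fun p hp => by
        obtain ⟨p, rfl⟩ := i.surjective p
        exact hUU hp
      have hc : X.presheaf.map (homOfLE hUU).op (i.app U'.1 t) = i.app U.1 (Y.presheaf.map (homOfLE hle).op t) :=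
        (ConcreteCategory.congr_hom (i.naturality (homOfLE hle).op) t).symm
      rw [hc, hδ, hδ]
      show q.app _ (OmegaSh.pullSect i _ U.1 (dY.app U.1 (Y.presheaf.map (homOfLE hle).op t))) = _
      rw [OmegaLib.app_map dY hle, ← hnatP hle]
      exact congr($(q.mapPresheaf.naturality (homOfLE hUU).op) _))
    (fun U a b => by
      obtain ⟨a, rfl⟩ : ∃ t₀, i.app U.1 t₀ = a := ⟨_, hlift U a⟩
      obtain ⟨b, rfl⟩ : ∃ t₀, i.app U.1 t₀ = b := ⟨_, hlift U b⟩
      rw [← map_mul, hδ, hδ, hδ, hQmul])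
    (fun U c => by
      have hc : strMap x (V U) c = i.app U.1 (strMap σ U.1 c) := by
        rw [show strMap σ U.1 c = strMap ξ.f U.1 (algebraMap k A c) from strMap_comp (algebraMap k A) ξ.f U.1 c,
          i_app_strMap A.res_surjective ξ.isPullback]
        exact congrArg (strMap x _) (AlgHom.commutes A.res c).symm
      rw [hc, hδ]
      show q.app _ (OmegaSh.pullSect i _ U.1 (dY.app U.1 (strMap σ U.1 c))) = 0
      rw [show dY.app U.1 (strMap σ U.1 c) = 0 from OmegaLib.app_appLE dY (top_le_preimage σ U.1) _, map_zero, map_zero])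
  obtain ⟨μ, hμ, -⟩ := S5005.result x (cokernel s) D
  have hμD : ∀ (W : X.Opens) t, μ.app W (dX.app W t) = D.app W t := fun W t =>
    PresheafOfModules.Derivation.congr_d hμ t
  have hφμ : φ ≫ μ = q := by
    refine Omega15.hom_ext_pull_der i (S5005.result σ) fun U t => ?_
    refine section_ext fun p hp => ?_
    obtain ⟨U', hU', hpU', hle⟩ := Opens.isBasis_iff_nbhd.mp Y.isBasis_affineOpens (show i p ∈ U from hp)
    refine ⟨i ⁻¹ᵁ U', i.preimage_mono hle, hpU', ?_⟩
    have h1 := congr($((φ ≫ μ).mapPresheaf.naturality (homOfLE (i.preimage_mono hle)).op)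
      (OmegaSh.pullSect i (Omega.sheaf σ) U (dY.app U t)))
    have h2 := congr($(q.mapPresheaf.naturality (homOfLE (i.preimage_mono hle)).op)
      (OmegaSh.pullSect i (Omega.sheaf σ) U (dY.app U t)))
    refine h1.symm.trans (Eq.trans ?_ h2)
    simp only [CategoryTheory.comp_apply]
    show (φ ≫ μ).app _ (Ω'.presheaf.map _ _) = q.app _ (Ω'.presheaf.map _ _)
    rw [hnatP hle, ← OmegaLib.app_map dY hle]
    show μ.app _ (φ.app _ _) = Q U' (Y.presheaf.map (homOfLE hle).op t)
    rw [hφ, hμD, hD ⟨U', hU'⟩, hδ ⟨U', hU'⟩]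
  let φb : cokernel s ⟶ Omega.sheaf x := cokernel.desc s φ hsφ
  have hπ : q ≫ φb = φ := cokernel.π_desc _ _ _
  have h1 : φb ≫ μ = 𝟙 _ := by
    rw [← cancel_epi q, reassoc_of% hπ, hφμ, Category.comp_id]
  have h2 : μ ≫ φb = 𝟙 _ := by
    refine OmegaLib.hom_ext_dOmega x fun W t => OmegaLib.section_ext fun a ha => ?_
    obtain ⟨_, ⟨U, rfl⟩, haU, hle⟩ := Opens.isBasis_iff_nbhd.mp hbasis ha
    refine ⟨V U, hle, haU, ?_⟩
    have h3 := congr($((μ ≫ φb).mapPresheaf.naturality (homOfLE hle).op) ((OmegaSh.dOmega x).app W t))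
    refine h3.symm.trans ?_
    show φb.app (V U) (μ.app (V U) ((Omega.sheaf x).presheaf.map (homOfLE hle).op (dX.app W t))) =
      (Omega.sheaf x).presheaf.map (homOfLE hle).op (dX.app W t)
    rw [← OmegaLib.app_map dX hle, hμD, hD U]
    obtain ⟨t', ht'⟩ : ∃ t', i.app U.1 t' = X.presheaf.map (homOfLE hle).op t := ⟨_, hlift U _⟩
    rw [← ht', hδ]
    show φb.app _ (q.app _ _) = _
    have h4 := congrArg (fun χ => Scheme.Modules.Hom.app χ (i ⁻¹ᵁ U.1)
      (OmegaSh.pullSect i (Omega.sheaf σ) U.1 (dY.app U.1 t'))) hπ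
    exact h4.trans (hφ U.1 t')
  haveI : IsIso φb := ⟨μ, h1, h2⟩
  have hepi : Epi φ := hπ ▸ inferInstance
  exact
    { exact := ShortComplex.exact_of_iso
        (ShortComplex.isoMk (S₁ := ShortComplex.mk s q (cokernel.condition s)) (S₂ := omegaSeq ξ)
          (Iso.refl _) (Iso.refl _) (asIso φb) (by simp [omegaSeq, s]) (by simp [omegaSeq, hπ]; rfl))
        (ShortComplex.exact_of_g_is_cokernel (ShortComplex.mk s q (cokernel.condition s)) (cokernelIsCokernel s))
      mono_f := mono_sEps ξ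
      epi_g := hepi }

theorem exists_twist_of_subsingleton_ext [Smooth x] [HasExt.{u} X.Modules]
    (h : Subsingleton (Ext.{u} (Omega.sheaf x) (Coh.structureModule X) 1)) :
    ∃ δ, IsTwist ξ (fun _ => 1) δ := by
  let A := artW k k 1
  let Y := ξ.total
  let i := ξ.i
  let σ := sig ξ
  have hσ : i ≫ σ = x := i_sig ξ
  haveI : IsClosedImmersion i := InfAut29.isClosedImmersion_i A.res_surjective ξ.isPullback
  haveI : Surjective i := InfAut29.surjective_i ξ.isPullback
  haveI : QuasiSeparated σ := quasiSeparated_sig ξ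
  let dY := OmegaSh.dOmega σ
  let dX := OmegaSh.dOmega x
  let Ω' := omegaPull ξ
  let E : A := eE k
  let ε := eps ξ
  let w : Γ(Ω', ⊤) := OmegaSh.pullSect i (Omega.sheaf σ) ⊤ (dY.app ⊤ (ε ⊤))
  let s : Coh.structureModule X ⟶ Ω' := sEps ξ
  have hs := sEps_app ξ
  have hnatP : ∀ {U V : Y.Opens} (h : U ≤ V) (t : Γ(Omega.sheaf σ, V)),
      Ω'.presheaf.map (homOfLE (i.preimage_mono h)).op (OmegaSh.pullSect i (Omega.sheaf σ) V t) =
        OmegaSh.pullSect i (Omega.sheaf σ) U ((Omega.sheaf σ).presheaf.map (homOfLE h).op t) := pullSect_res ξ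
  have hiε := app_eps ξ
  let φ := phi ξ
  have hsφ : s ≫ φ = 0 := sEps_phi ξ
  haveI := mono_sEps ξ
  have hS := omegaSeq_shortExact ξ
  obtain ⟨lam, hlam⟩ := Ext.covariant_sequence_exact₃ (X := Omega.sheaf x) hS (Ext.mk₀ (𝟙 _)) (zero_add 1) (h.elim _ _)
  obtain ⟨lam, rfl⟩ := (Ext.mk₀_bijective _ _).2 lam
  rw [Ext.mk₀_comp_mk₀] at hlam
  replace hlam : lam ≫ φ = 𝟙 _ := (Ext.mk₀_bijective _ _).1 hlam
  have hr₀ : (𝟙 Ω' - φ ≫ lam) ≫ φ = 0 := by
    rw [Preadditive.sub_comp, Category.assoc, hlam, Category.comp_id, Category.id_comp, sub_self]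
  let R : Ω' ⟶ Coh.structureModule X := hS.exact.lift (𝟙 Ω' - φ ≫ lam) hr₀
  have hR : R ≫ s = 𝟙 Ω' - φ ≫ lam := hS.exact.lift_f _ _
  have hsR : s ≫ R = 𝟙 _ := by
    rw [← cancel_mono s, Category.assoc, hR, Preadditive.comp_sub, reassoc_of% hsφ, zero_comp, sub_zero,
      Category.comp_id, Category.id_comp]
  -- the derivation
  let T : ∀ U : Y.affineOpens, Γ(Y, U.1) →+ Γ(X, i ⁻¹ᵁ U.1) := fun U =>
    (OmegaSh.fnSect X (i ⁻¹ᵁ U.1)).comp ((R.app (i ⁻¹ᵁ U.1)).hom.comp
      ((OmegaSh.pullSect i (Omega.sheaf σ) U.1).hom.comp (dY.app U.1)))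
  have hTmul : ∀ (U : Y.affineOpens) a b, T U (a * b) = i.app U.1 a * T U b + i.app U.1 b * T U a := by
    intro U a b
    show OmegaSh.fnSect X _ (R.app _ (OmegaSh.pullSect i _ U.1 (dY.app U.1 (a * b)))) = _
    rw [OmegaLib.app_mul, map_add, PrinLib.pullSect_smul, PrinLib.pullSect_smul, map_add, Scheme.Modules.Hom.app_smul,
      Scheme.Modules.Hom.app_smul, map_add]
    rfl
  refine ⟨T, fun U U' hUU t => ?_, hTmul, fun U a => ?_⟩
  · show OmegaSh.fnSect X _ (R.app _ (OmegaSh.pullSect i _ U.1 (dY.app U.1 (Y.presheaf.map (homOfLE hUU).op t)))) = _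
    rw [OmegaLib.app_map dY hUU, ← hnatP hUU]
    exact congr($(R.mapPresheaf.naturality (homOfLE (i.preimage_mono hUU)).op) _)
  · have hc : ∀ c : k, T U (strMap ξ.f U.1 (algebraMap k A c)) = 0 := fun c => by
      show OmegaSh.fnSect X _ (R.app _ (OmegaSh.pullSect i _ U.1 (dY.app U.1 (strMap ξ.f U.1 (algebraMap k A c))))) = 0
      rw [← show strMap σ U.1 c = strMap ξ.f U.1 (algebraMap k A c) from strMap_comp (algebraMap k A) ξ.f U.1 c,
        show dY.app U.1 (strMap σ U.1 c) = 0 from OmegaLib.app_appLE dY (top_le_preimage σ U.1) _, map_zero, map_zero,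
        map_zero]
    have hT1 : T U (ε U.1) = 1 := by
      have h1 := congrArg (fun χ => Scheme.Modules.Hom.app χ (i ⁻¹ᵁ U.1) (1 : Γ(X, i ⁻¹ᵁ U.1))) hsR
      change R.app _ (s.app _ (1 : Γ(X, i ⁻¹ᵁ U.1))) = _ at h1
      rw [hs, one_smul] at h1
      exact congrArg (OmegaSh.fnSect X _) h1
    have ha : a = algebraMap k A (A.res a) +
        algebraMap k A ((show TrivSqZeroExt k (Fin 1 → k) from a).snd 0) * E := decomp a
    conv_lhs => rw [ha, map_add, map_add, map_mul, hc, zero_add, hTmul, hc, mul_zero, add_zero]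
    show i.app U.1 _ * T U (ε U.1) = _
    rw [hT1, mul_one, i_app_strMap A.res_surjective ξ.isPullback]
    refine congrArg (strMap x _) ?_
    show A.res (algebraMap k A ((show TrivSqZeroExt k (Fin 1 → k) from a).snd 0)) = dot (fun _ => (1 : k)) _
    rw [AlgHom.commutes]
    simp [dot]

end Groth.Agent.DefFin29
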