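import Groth.Agent.DefFin29.ExtDeform
import Groth.Agent.DefFin29.Split

/-!
# Rigid schemes have no extensions of the differentials by the structure sheaf
-/

set_option autoImplicit false
set_option backward.isDefEq.respectTransparency.types false
set_option backward.isDefEq.respectTransparency false
set_option linter.style.haveILetI false
set_option maxHeartbeats 800000
universe u

open CategoryTheory CategoryTheory.Limits AlgebraicGeometry TopologicalSpace Opposite
open Groth.Agent.ArtGlobal29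
open Abelian (Ext)

attribute [local instance 50] Exal.opModule Exal.isCentralScalar_opModule

noncomputable section

namespace Groth.Agent.DefFin29.ExtDeform

variable {k : Type u} [Field k] {X : Scheme.{u}} (x : X ⟶ Spec (CommRingCat.of k)) [QuasiSeparated x]
  {E : X.Modules} {ι : Coh.structureModule X ⟶ E} {p : E ⟶ Omega.sheaf x} (hip : ι ≫ p = 0)
  (hS : (ShortComplex.mk ι p hip).ShortExact)

variable (p) in
/-- The affine pieces. -/
def F : X.affineOpens ⥤ Scheme.{u} where
  obj U := Spec (R x p U.1)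
  map {U V} f := Spec.map (res x p (leOfHom f : U.1 ≤ V.1))
  map_id U := by rw [res_self, Spec.map_id]
  map_comp f g := by rw [← Spec.map_comp, res_comp]

variable (p) in
/-- An affine open in its piece. -/
def jU (U : X.affineOpens) : U.1.toScheme ⟶ (F x p).obj U :=
  U.2.isoSpec.hom ≫ Spec.map (π x p U.1)

theorem jU_natural {U V : X.affineOpens} (f : U ⟶ V) :
    X.homOfLE (leOfHom f : U.1 ≤ V.1) ≫ jU x p V = jU x p U ≫ (F x p).map f := by
  show X.homOfLE _ ≫ V.2.isoSpec.hom ≫ Spec.map (π x p V.1) =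
    (U.2.isoSpec.hom ≫ Spec.map (π x p U.1)) ≫ Spec.map (res x p _)
  rw [Category.assoc, ← Spec.map_comp, res_π, Spec.map_comp, IsAffineOpen.isoSpec_hom, IsAffineOpen.isoSpec_hom,
    Scheme.Opens.toSpecΓ_SpecMap_presheaf_map_assoc]

include hS in
theorem bijective_jU (U : X.affineOpens) : Function.Bijective (jU x p U) := by
  have hc : IsClosedImmersion (Spec.map (π x p U.1)) :=
    IsClosedImmersion.spec_of_surjective _ (surjective_π x hip hS U.2)
  have h1 : Function.Bijective (Spec.map (π x p U.1)) := by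
    refine ⟨hc.base_closed.isEmbedding.injective, ?_⟩
    rw [← Set.range_eq_univ]
    show Set.range (PrimeSpectrum.comap (π x p U.1).hom) = Set.univ
    rw [_root_.range_comap_of_surjective _ _ (surjective_π x hip hS U.2)]
    refine Set.eq_univ_iff_forall.2 fun q z hz => ?_
    obtain ⟨g, rfl⟩ := exists_incl_of_π_eq_zero x hip hS U.1 z hz
    have h2 : incl x hip U.1 g * incl x hip U.1 g ∈ q.asIdeal := by
      rw [mul_incl, show π x p U.1 (incl x hip U.1 g) = 0 from hz, zero_mul,
        show incl x hip U.1 0 = 0 from Subtype.ext (by simp [incl])]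
      exact zero_mem _
    exact (q.isPrime.mem_or_mem h2).elim id id
  exact h1.comp (Scheme.homeoOfIso U.2.isoSpec).bijective

include hS in
theorem isHomeomorph_jU (U : X.affineOpens) : IsHomeomorph (jU x p U) := by
  have hc : IsClosedImmersion (Spec.map (π x p U.1)) :=
    IsClosedImmersion.spec_of_surjective _ (surjective_π x hip hS U.2)
  haveI : IsClosedImmersion (jU x p U) :=
    inferInstanceAs (IsClosedImmersion (U.2.isoSpec.hom ≫ Spec.map (π x p U.1)))
  exact isHomeomorph_iff_continuous_isClosedMap_bijective.2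
    ⟨(jU x p U).continuous, (jU x p U).isClosedEmbedding.isClosedMap, bijective_jU x hip hS U⟩

include hS in
theorem isOpenImmersion_map {U V : X.affineOpens} (f : U ⟶ V) : IsOpenImmersion ((F x p).map f) := by
  have hb : ∀ (U : X.affineOpens) (a : Γ(X, U.1)) (D : X.affineOpens) (e : D.1 = X.basicOpen a) (g : D ⟶ U),
      IsOpenImmersion ((F x p).map g) := by
    rintro U a ⟨_, hD⟩ rfl g
    obtain ⟨b, hb⟩ := surjective_π x hip hS U.2 a
    letI := (res x p (X.basicOpen_le a)).hom.toAlgebra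
    haveI := isLocalization x hip hS U.2 a b hb
    exact IsOpenImmersion.of_isLocalization b
  have hcommon : ∀ q : U.1.toScheme, ∃ (D : X.affineOpens) (g : D ⟶ U) (a : Γ(X, U.1)) (a' : Γ(X, V.1)),
      D.1 = X.basicOpen a ∧ D.1 = X.basicOpen a' ∧ q.1 ∈ D.1 := by
    intro q
    obtain ⟨a, a', he, hq⟩ := exists_basicOpen_le_affine_inter U.2 V.2 q.1 ⟨q.2, (leOfHom f : U.1 ≤ V.1) q.2⟩
    exact ⟨⟨X.basicOpen a, U.2.basicOpen a⟩, homOfLE (X.basicOpen_le a), a, a', rfl, he, hq⟩
  have hbase : ∀ q : U.1.toScheme, (F x p).map f (jU x p U q) = jU x p V (X.homOfLE (leOfHom f : U.1 ≤ V.1) q) := fun q => by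
    rw [← Scheme.Hom.comp_apply, ← Scheme.Hom.comp_apply, jU_natural]
  have hemb : Topology.IsOpenEmbedding ((F x p).map f) := by
    let hU := (isHomeomorph_jU x hip hS U).homeomorph
    let hV := (isHomeomorph_jU x hip hS V).homeomorph
    have he : ⇑((F x p).map f) = ⇑hV ∘ ⇑(X.homOfLE (leOfHom f : U.1 ≤ V.1)) ∘ ⇑hU.symm := funext fun z => by
      obtain ⟨q, rfl⟩ := hU.surjective z
      show _ = hV (X.homOfLE _ (hU.symm (hU q)))
      rw [hU.symm_apply_apply]
      exact hbase q
    rw [he]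
    exact hV.isOpenEmbedding.comp ((X.homOfLE (leOfHom f : U.1 ≤ V.1)).isOpenEmbedding.comp hU.symm.isOpenEmbedding)
  have : ∀ z, IsIso (((F x p).map f).stalkMap z) := by
    intro z
    obtain ⟨q, rfl⟩ := (bijective_jU x hip hS U).2 z
    obtain ⟨D, g, a, a', he, he', hq⟩ := hcommon q
    haveI := hb U a D he g
    haveI := hb V a' D he' (g ≫ f)
    obtain ⟨w, hw⟩ : ∃ w, (F x p).map g w = jU x p U q := by
      refine ⟨jU x p D ⟨q.1, hq⟩, ?_⟩
      rw [← Scheme.Hom.comp_apply, ← jU_natural, Scheme.Hom.comp_apply]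
      congr 1
      exact Subtype.ext (by simp)
    rw [← hw]
    have h1 : IsIso (((F x p).map g ≫ (F x p).map f).stalkMap w) := by
      rw [← Functor.map_comp]; infer_instance
    rw [Scheme.Hom.stalkMap_comp] at h1
    exact IsIso.of_isIso_comp_right _ (((F x p).map g).stalkMap w)
  exact IsOpenImmersion.of_isIso_stalkMap _ hemb

include hS in
theorem isLocallyDirected : (F x p ⋙ Scheme.forget).IsLocallyDirected where
  cond {i j l} fi fj xi xj h := by
    obtain ⟨a, rfl⟩ := (bijective_jU x hip hS i).2 xi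
    obtain ⟨b, rfl⟩ := (bijective_jU x hip hS j).2 xj
    change (F x p).map fi (jU x p i a) = (F x p).map fj (jU x p j b) at h
    rw [← Scheme.Hom.comp_apply, ← Scheme.Hom.comp_apply, ← jU_natural, ← jU_natural, Scheme.Hom.comp_apply,
      Scheme.Hom.comp_apply] at h
    have hab : a.1 = b.1 := by
      have := congrArg Subtype.val ((bijective_jU x hip hS l).1 h)
      simpa using this
    obtain ⟨D, hD, haD, hle⟩ := Opens.isBasis_iff_nbhd.mp X.isBasis_affineOpens
      (show a.1 ∈ i.1 ⊓ j.1 from ⟨a.2, hab ▸ b.2⟩)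
    let gi : (⟨D, hD⟩ : X.affineOpens) ⟶ i := homOfLE (hle.trans inf_le_left : D ≤ i.1)
    let gj : (⟨D, hD⟩ : X.affineOpens) ⟶ j := homOfLE (hle.trans inf_le_right : D ≤ j.1)
    refine ⟨⟨D, hD⟩, gi, gj, jU x p ⟨D, hD⟩ ⟨a.1, haD⟩, ?_, ?_⟩
    · show (F x p).map gi (jU x p _ _) = jU x p i a
      rw [← Scheme.Hom.comp_apply, ← jU_natural, Scheme.Hom.comp_apply]
      congr 1
      exact Subtype.ext (by simp)
    · show (F x p).map gj (jU x p _ _) = jU x p j b
      rw [← Scheme.Hom.comp_apply, ← jU_natural, Scheme.Hom.comp_apply]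
      congr 1
      exact Subtype.ext (by simpa using hab)

theorem spec_strMap (U : X.affineOpens) : Spec.map (CommRingCat.ofHom (strMap x U.1)) = U.2.fromSpec ≫ x := by
  rw [← IsAffineOpen.SpecMap_appLE_fromSpec x (isAffineOpen_top _) U.2 (top_le_preimage x U.1),
    IsAffineOpen.fromSpec_top, Scheme.isoSpec_Spec_inv, ← Spec.map_comp]
  rfl

/-- The structure map of a piece is the one of the open. -/
theorem jU_α (U : X.affineOpens) :
    jU x p U ≫ Spec.map (α x hip U.1) =
      (U.1.ι ≫ x) ≫ Spec.map (CommRingCat.ofHom (TrivSqZeroExt.fstHom k k (Fin 1 → k)).toRingHom) := by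
  show (U.2.isoSpec.hom ≫ Spec.map (π x p U.1)) ≫ _ = _
  rw [Category.assoc, ← Spec.map_comp, α_π, CommRingCat.ofHom_comp, Spec.map_comp, spec_strMap, Category.assoc,
    IsAffineOpen.isoSpec_hom_fromSpec_assoc, Category.assoc]

include hS in
theorem isPullback_piece (U : X.affineOpens) :
    IsPullback (jU x p U) (U.1.ι ≫ x) (Spec.map (α x hip U.1))
      (Spec.map (CommRingCat.ofHom (TrivSqZeroExt.fstHom k k (Fin 1 → k)).toRingHom)) := by
  have hP := isPullback_SpecMap_of_isPushout _ _ _ _ (isPushout x hip hS U.2)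
  refine hP.of_iso U.2.isoSpec.symm (Iso.refl _) (Iso.refl _) (Iso.refl _) ?_ ?_ (by simp) (by simp)
  · simp [jU]
  · simp only [Iso.symm_hom, Iso.refl_hom, Category.comp_id]
    rw [← Category.assoc, IsAffineOpen.isoSpec_inv_ι]
    exact spec_strMap x U

theorem range_le_of_retraction {U : X.affineOpens} {R₀ : CommRingCat.{u}} (g : Spec R₀ ⟶ X)
    (h : Set.range g ⊆ U.1) : ∃ ρ : Γ(X, U.1) ⟶ R₀, Spec.map ρ ≫ U.2.fromSpec = g := by
  have hr : Set.range g ⊆ Set.range U.2.fromSpec := by rwa [U.2.range_fromSpec]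
  exact ⟨Spec.preimage (IsOpenImmersion.lift U.2.fromSpec g hr), by rw [Spec.map_preimage, IsOpenImmersion.lift_fac]⟩

section Total

variable [∀ {U V : X.affineOpens} (f : U ⟶ V), IsOpenImmersion ((F x p).map f)]
  [(F x p ⋙ Scheme.forget).IsLocallyDirected]

variable (p) in
/-- The deformation attached to an extension. -/
abbrev total : Scheme.{u} := colimit (F x p)

variable (p) in
/-- A piece of the deformation. -/
abbrev piece (U : X.affineOpens) : Spec (R x p U.1) ⟶ total x p := colimit.ι (F x p) U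

theorem piece_w {U V : X.affineOpens} (h : U.1 ≤ V.1) :
    Spec.map (res x p h) ≫ piece x p V = piece x p U :=
  colimit.w (F x p) (homOfLE h : U ⟶ V)

/-- The structure map of the deformation. -/
def toBaseW : total x p ⟶ Spec (CommRingCat.of (TrivSqZeroExt k (Fin 1 → k))) :=
  colimit.desc (F x p)
    { pt := Spec (CommRingCat.of (TrivSqZeroExt k (Fin 1 → k)))
      ι :=
        { app := fun U => Spec.map (α x hip U.1)
          naturality := fun U V g => by
            show Spec.map (res x p _) ≫ Spec.map (α x hip V.1) = Spec.map (α x hip U.1) ≫ 𝟙 _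
            rw [Category.comp_id, ← Spec.map_comp, α_res] } }

theorem piece_toBaseW (U : X.affineOpens) : piece x p U ≫ toBaseW x hip = Spec.map (α x hip U.1) :=
  colimit.ι_desc (F := F x p) _ U

theorem glue_w {U V : X.directedAffineCover.I₀} (g : U ⟶ V) :
    Scheme.Cover.trans X.directedAffineCover g ≫ jU x p V ≫ colimit.ι (F x p) V = jU x p U ≫ colimit.ι (F x p) U := by
  show X.homOfLE (leOfHom g) ≫ jU x p V ≫ colimit.ι (F x p) V = _
  rw [← Category.assoc, jU_natural x (p := p) g, Category.assoc, colimit.w (F x p) g]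

variable (p) in
/-- The closed fibre of the deformation. -/
def inclX : X ⟶ total x p := X.directedAffineCover.glueMorphismsOfLocallyDirected
  (fun U => jU x p U ≫ colimit.ι (F x p) U) (glue_w x)

theorem ι_inclX (U : X.affineOpens) : U.1.ι ≫ inclX x p = jU x p U ≫ piece x p U :=
  Scheme.OpenCover.map_glueMorphismsOfLocallyDirected X.directedAffineCover
    (fun U => jU x p U ≫ colimit.ι (F x p) U) (glue_w x) U

include hS in
theorem preimage_piece (U : X.affineOpens) :
    inclX x p ⁻¹ᵁ (piece x p U).opensRange = U.1 := by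
  let Y := total x p
  let i := inclX x p
  have hi : ∀ U : X.affineOpens, U.1.ι ≫ i = jU x p U ≫ colimit.ι (F x p) U := ι_inclX x
  refine Eq.trans ?_ (Scheme.Opens.opensRange_ι U.1)
  rw [Scheme.Opens.opensRange_ι]
  ext a
  constructor
  · rintro ⟨b, hb⟩
    obtain ⟨c, rfl⟩ := (bijective_jU x hip hS U).2 b
    obtain ⟨D, hD, haD, -⟩ := Opens.isBasis_iff_nbhd.mp X.isBasis_affineOpens (Opens.mem_top a)
    have ha : i a = colimit.ι (F x p) ⟨D, hD⟩ (jU x p ⟨D, hD⟩ ⟨a, haD⟩) :=
      congrArg (fun φ : (⟨D, hD⟩ : X.affineOpens).1.toScheme ⟶ Y => φ ⟨a, haD⟩) (hi ⟨D, hD⟩)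
    obtain ⟨l, fl, fl', z, hz, hz'⟩ := (Scheme.IsLocallyDirected.ι_eq_ι_iff (F x p)).1 (hb.trans ha)
    obtain ⟨d, rfl⟩ := (bijective_jU x hip hS l).2 z
    rw [← Scheme.Hom.comp_apply, ← jU_natural, Scheme.Hom.comp_apply] at hz hz'
    have h1 : d.1 = c.1 := by simpa using congrArg Subtype.val ((bijective_jU x hip hS U).1 hz)
    have h2 : d.1 = a := by simpa using congrArg Subtype.val ((bijective_jU x hip hS ⟨D, hD⟩).1 hz')
    show a ∈ U.1
    rw [← h2, h1]
    exact c.2
  · intro ha
    exact ⟨jU x p U ⟨a, ha⟩, (congrArg (fun φ : U.1.toScheme ⟶ Y => φ ⟨a, ha⟩) (hi U)).symm⟩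

include hS in
theorem flat_toBaseW : Flat (toBaseW x hip) := by
  refine IsZariskiLocalAtSource.of_openCover (Scheme.IsLocallyDirected.openCover (F x p)) fun U => ?_
  show Flat (piece x p U ≫ toBaseW x hip)
  rw [piece_toBaseW]
  exact (HasRingHomProperty.Spec_iff (P := @Flat)).2 (flat_α x hip hS U.2)

include hS in
theorem isPullback_inclX :
    IsPullback (inclX x p) x (toBaseW x hip)
      (Spec.map (CommRingCat.ofHom (TrivSqZeroExt.fstHom k k (Fin 1 → k)).toRingHom)) := by
  let f := toBaseW x hip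
  let i := inclX x p
  have hi : ∀ U : X.affineOpens, U.1.ι ≫ i = jU x p U ≫ colimit.ι (F x p) U := ι_inclX x
  have hιf : ∀ U, colimit.ι (F x p) U ≫ f = Spec.map (α x hip U.1) := piece_toBaseW x hip
  have hpre : ∀ U : X.affineOpens, i ⁻¹ᵁ (colimit.ι (F x p) U).opensRange = U.1.ι.opensRange := fun U =>
    (preimage_piece x hip hS U).trans (Scheme.Opens.opensRange_ι U.1).symm
  refine Scheme.isPullback_of_openCover i x f _ (Scheme.IsLocallyDirected.openCover (F x p)) fun U => ?_
  have hsq : IsPullback (jU x p U) U.1.ι (colimit.ι (F x p) U) i :=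
    IsOpenImmersion.isPullback (jU x p U) U.1.ι (colimit.ι (F x p) U) i (hi U) (hpre U)
  have h0 : IsPullback (jU x p U) (U.1.ι ≫ x) (colimit.ι (F x p) U ≫ f)
      (Spec.map (CommRingCat.ofHom (TrivSqZeroExt.fstHom k k (Fin 1 → k)).toRingHom)) := by
    rw [hιf]; exact isPullback_piece x hip hS U
  refine h0.of_iso hsq.flip.isoPullback (Iso.refl _) (Iso.refl _) (Iso.refl _) ?_ ?_ (by simp) (by simp)
  · simp [Scheme.Cover.pullbackHom]
    exact (hsq.flip.isoPullback_hom_snd).symm
  · simp only [Iso.refl_hom, Category.comp_id]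
    exact (congrArg (· ≫ x) hsq.flip.isoPullback_hom_fst).symm.trans (Category.assoc _ _ _)

include hS in
/-- If the deformation attached to an extension is trivial, the extension splits. -/
theorem exists_retraction (H : ∀ (Y : Scheme.{u}) (f : Y ⟶ Spec (CommRingCat.of (TrivSqZeroExt k (Fin 1 → k)))) (i : X ⟶ Y), Flat f →
      IsPullback i x f (Spec.map (CommRingCat.ofHom (TrivSqZeroExt.fstHom k k (Fin 1 → k)).toRingHom)) →
      ∃ φ : Y ≅ pullback x (Spec.map (CommRingCat.ofHom (algebraMap k (TrivSqZeroExt k (Fin 1 → k))))),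
        φ.hom ≫ pullback.snd _ _ = f ∧ i ≫ φ.hom ≫ pullback.fst _ _ = 𝟙 X) :
    ∃ lam : Omega.sheaf x ⟶ E, lam ≫ p = 𝟙 _ := by
  let Y := total x p
  let f := toBaseW x hip
  let i := inclX x p
  have hi : ∀ U : X.affineOpens, U.1.ι ≫ i = jU x p U ≫ colimit.ι (F x p) U := ι_inclX x
  have hιf : ∀ U, colimit.ι (F x p) U ≫ f = Spec.map (α x hip U.1) := piece_toBaseW x hip
  obtain ⟨φ, hφf, hφi⟩ := H (total x p) (toBaseW x hip) (inclX x p) (flat_toBaseW x hip hS) (isPullback_inclX x hip hS)
  let u : Y ⟶ X := φ.hom ≫ pullback.fst _ _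
  have hiu : i ≫ u = 𝟙 X := hφi
  have hux : u ≫ x = f ≫ Spec.map (CommRingCat.ofHom (algebraMap k (TrivSqZeroExt k (Fin 1 → k)))) := by
    show (φ.hom ≫ _) ≫ x = _
    rw [Category.assoc, pullback.condition, ← Category.assoc, hφf]
  have hρ : ∀ U : X.affineOpens, ∃ ρ : Γ(X, U.1) ⟶ R x p U.1,
      Spec.map ρ ≫ U.2.fromSpec = colimit.ι (F x p) U ≫ u := fun U => range_le_of_retraction _ (by
    rintro _ ⟨b, rfl⟩
    obtain ⟨c, rfl⟩ := (bijective_jU x hip hS U).2 b
    have h1 : jU x p U ≫ colimit.ι (F x p) U ≫ u = U.1.ι := by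
      rw [← Category.assoc, ← hi U, Category.assoc, hiu, Category.comp_id]
    have h2 : (colimit.ι (F x p) U ≫ u) (jU x p U c) = c.1 := congrArg (fun φ : U.1.toScheme ⟶ X => φ c) h1
    show (colimit.ι (F x p) U ≫ u) (jU x p U c) ∈ (U.1 : Set X)
    rw [h2]
    exact c.2)
  choose ρ hρ using hρ
  have hρπ : ∀ U : X.affineOpens, ρ U ≫ π x p U.1 = 𝟙 _ := by
    intro U
    apply Spec.map_injective
    rw [Spec.map_comp, Spec.map_id, ← cancel_mono U.2.fromSpec, ← cancel_epi U.2.isoSpec.hom, Category.assoc, hρ,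
      Category.id_comp, IsAffineOpen.isoSpec_hom_fromSpec]
    show U.2.isoSpec.hom ≫ Spec.map (π x p U.1) ≫ colimit.ι (F x p) U ≫ u = _
    rw [← Category.assoc, ← Category.assoc]
    show (jU x p U ≫ colimit.ι (F x p) U) ≫ u = _
    rw [← hi, Category.assoc, hiu, Category.comp_id]
  have hρres : ∀ (U V : X.affineOpens) (h : U.1 ≤ V.1),
      ρ V ≫ res x p h = X.presheaf.map (homOfLE h).op ≫ ρ U := by
    intro U V h
    apply Spec.map_injective
    rw [Spec.map_comp, Spec.map_comp, ← cancel_mono V.2.fromSpec, Category.assoc, Category.assoc, hρ,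
      V.2.map_fromSpec U.2 (homOfLE h).op, hρ]
    exact colimit.w_assoc (F x p) (homOfLE h : U ⟶ V) u
  have hρc : ∀ (U : X.affineOpens) (c : k),
      ρ U (strMap x U.1 c) = α x hip U.1 (algebraMap k (TrivSqZeroExt k (Fin 1 → k)) c) := by
    intro U c
    have h1 : CommRingCat.ofHom (strMap x U.1) ≫ ρ U =
        CommRingCat.ofHom (algebraMap k (TrivSqZeroExt k (Fin 1 → k))) ≫ α x hip U.1 := by
      apply Spec.map_injective
      rw [Spec.map_comp, Spec.map_comp, ← hιf, Category.assoc, ← hux]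
      rw [spec_strMap, reassoc_of% (hρ U)]
    exact congr($h1 c)
  have hfst : ∀ (U : X.affineOpens) t, (ρ U t).1.fst = t := fun U t => congr($(hρπ U) t)
  let δ : ∀ U : X.affineOpens, Γ(X, U.1) →+ Γ(E, U.1) := fun U =>
    AddMonoidHom.mk' (fun t => (ρ U t).1.snd) fun a b => by
      show (ρ U (a + b)).1.snd = _
      rw [map_add]; rfl
  obtain ⟨D, hD⟩ := exists_derM x (fun U : X.affineOpens => U.1)
    (by rw [show Set.range (fun U : X.affineOpens => U.1) = X.affineOpens from Subtype.range_val]; exact X.isBasis_affineOpens)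
    E δ (fun U V h t => by
      show (ρ U (X.presheaf.map _ t)).1.snd = E.presheaf.map _ (ρ V t).1.snd
      rw [← res_snd x p h]
      exact congrArg (fun z : R x p U.1 => z.1.snd) (congr($(hρres U V h) t)).symm)
    (fun U a b => by
      show (ρ U (a * b)).1.snd = a • (ρ U b).1.snd + b • (ρ U a).1.snd
      rw [map_mul]
      show ((ρ U a).1 * (ρ U b).1).snd = _
      rw [TrivSqZeroExt.snd_mul, op_smul_eq_smul, hfst, hfst])
    (fun U c => by
      show (ρ U (strMap x U.1 c)).1.snd = 0
      rw [hρc]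
      simp [α, TrivSqZeroExt.algebraMap_eq_inl])
  obtain ⟨lam, hlam, -⟩ := S5005.result x E D
  have hlamD : ∀ (U : X.Opens) t, lam.app U ((OmegaSh.dOmega x).app U t) = D.app U t := fun U t =>
    PresheafOfModules.Derivation.congr_d hlam t
  refine ⟨lam, OmegaLib.hom_ext_dOmega x fun W t => OmegaLib.section_ext fun a ha => ?_⟩
  obtain ⟨U, hU, haU, hle⟩ := Opens.isBasis_iff_nbhd.mp X.isBasis_affineOpens ha
  refine ⟨U, hle, haU, ?_⟩
  have h1 := congr($((lam ≫ p).mapPresheaf.naturality (homOfLE hle).op) ((OmegaSh.dOmega x).app W t))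
  refine h1.symm.trans ?_
  show p.app U (lam.app U ((Omega.sheaf x).presheaf.map (homOfLE hle).op ((OmegaSh.dOmega x).app W t))) =
    (Omega.sheaf x).presheaf.map (homOfLE hle).op ((OmegaSh.dOmega x).app W t)
  rw [← OmegaLib.app_map (OmegaSh.dOmega x) hle, hlamD, hD ⟨U, hU⟩]
  exact ((ρ ⟨U, hU⟩ _).2).trans (congrArg _ (hfst ⟨U, hU⟩ _))

end Total

end Groth.Agent.DefFin29.ExtDeform
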