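import Groth.Agent.Dual22Lib.HomFinite
import Groth.Agent.OmegaLib.ConormalMap
import Groth.Agent.OmegaLib.ConormalStalk
import Groth.Agent.Thick15.ConormalStalk
import Groth.Agent.Omega15.ConormalBC
import Groth.Agent.Omega15.RetractSeq
import Groth.Agent.CurveRR24.Sky
import Groth.Agent.Coherent.FinitePres
import Groth.Agent.DCat.ClosedPush

/-!
# Extending functionals from the kernel of the reduction map of an ideal
-/

set_option autoImplicit false
set_option backward.isDefEq.respectTransparency.types false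
set_option backward.isDefEq.respectTransparency false
set_option linter.style.haveILetI false
set_option synthInstance.maxHeartbeats 100000

universe u

open CategoryTheory CategoryTheory.Limits CategoryTheory.Pretriangulated AlgebraicGeometry TopologicalSpace Opposite
open Groth.Agent.OmegaLib

attribute [local instance] HasDerivedCategory.standard
attribute [-instance] Int.instConditionallyCompleteLinearOrder

noncomputable section

namespace Groth.Agent.DefFin29

variable {X P Z : Scheme.{u}} (Δ : X ⟶ P) [IsClosedImmersion Δ] (c : P ⟶ Z) [IsClosedImmersion c]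

theorem exists_mem_of_app_eq_zero {W : Scheme.{u}} (j : W ⟶ Z) [IsClosedImmersion j] {U : Z.Opens}
    {a : Γ(Z, U)} (ha : j.app U a = 0) : ∃ s, OmegaSh.idealSect j.ker U s = a :=
  (AmpleLib.mem_range_idealModι j.ker U a).2 (Thick15.subschemeι_app_eq_zero j ha)

/-- Morphisms of modules agreeing on germs are equal. -/
theorem hom_ext_gm {W : Scheme.{u}} {F G : W.Modules} (φ ψ : F ⟶ G)
    (h : ∀ (w : W) (t : (DerSch.stalkFunctor W w).obj F),
      (DerSch.stalkFunctor W w).map φ t = (DerSch.stalkFunctor W w).map ψ t) : φ = ψ := by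
  refine Scheme.Modules.hom_ext _ _ fun U => ?_
  ext s
  refine TopCat.Presheaf.section_ext ⟨G.presheaf, G.isSheaf⟩ U _ _ fun w hw => ?_
  have h' := h w (gm F U w hw s)
  rw [map_gm, map_gm] at h'
  exact h'

/-- A map that reduces local sections of the ideal of `Δ ≫ c` to sections of the ideal of `Δ`. -/
def IsRed (α : ClSub.idealMod (Δ ≫ c).ker ⟶ (Scheme.Modules.pushforward c).obj (ClSub.idealMod Δ.ker)) : Prop :=
  ∀ (U : Z.Opens) (s : Γ(ClSub.idealMod (Δ ≫ c).ker, U)),
    OmegaSh.idealSect Δ.ker (c ⁻¹ᵁ U) (α.app U s) = c.app U (OmegaSh.idealSect (Δ ≫ c).ker U s)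

variable {Δ c} {α : ClSub.idealMod (Δ ≫ c).ker ⟶ (Scheme.Modules.pushforward c).obj (ClSub.idealMod Δ.ker)}
  (hα : IsRed Δ c α)

include hα in
theorem epi_red : Epi α := by
  refine Preadditive.epi_of_isZero_cokernel _ (ModStalk.isZero_of_stalks fun z => ?_)
  refine IsZero.of_iso ?_ (PreservesCokernel.iso (DerSch.stalkFunctor Z z) α)
  have : Epi ((DerSch.stalkFunctor Z z).map α) := by
    rw [ModuleCat.epi_iff_surjective]
    intro w
    obtain ⟨U, hzU, t, rfl⟩ := exists_gm _ w
    obtain ⟨V, hV, hzV, hVU⟩ := Opens.isBasis_iff_nbhd.mp Z.isBasis_affineOpens hzU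
    let t' : Γ(ClSub.idealMod Δ.ker, c ⁻¹ᵁ V) :=
      ((Scheme.Modules.pushforward c).obj (ClSub.idealMod Δ.ker)).presheaf.map (homOfLE hVU).op t
    obtain ⟨a, ha⟩ := c.app_surjective V hV (OmegaSh.idealSect Δ.ker (c ⁻¹ᵁ V) t')
    have h0 : (Δ ≫ c).app V a = 0 := by
      rw [Scheme.Hom.comp_app, CommRingCat.comp_apply, ha]
      exact Omega15.app_idealSect Δ _ t'
    obtain ⟨s, hs⟩ := exists_mem_of_app_eq_zero (Δ ≫ c) h0
    refine ⟨gm _ V z hzV s, ?_⟩
    have hst : α.app V s = t' := by
      refine idealSect_injective Δ.ker (c ⁻¹ᵁ V) ?_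
      rw [hα, hs, ha]
    rw [map_gm, hst]
    exact gm_res ((Scheme.Modules.pushforward c).obj (ClSub.idealMod Δ.ker)) hzU hVU hzV t
  exact isZero_cokernel_of_epi _

variable (α) in
/-- The reduction followed by the counit. -/
def redPull : (Scheme.Modules.pullback c).obj (ClSub.idealMod (Δ ≫ c).ker) ⟶ ClSub.idealMod Δ.ker :=
  ((Scheme.Modules.pullbackPushforwardAdjunction c).homEquiv _ _).symm α

theorem redPull_eq : redPull α = (Scheme.Modules.pullback c).map α ≫
    (Scheme.Modules.pullbackPushforwardAdjunction c).counit.app _ :=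
  (Scheme.Modules.pullbackPushforwardAdjunction c).homEquiv_counit _ _ α

include hα in
theorem epi_redPull : Epi (redPull α) := by
  have := epi_red hα
  have := DCat.ClosedPush.isIso_counit c (ClSub.idealMod Δ.ker)
  rw [redPull_eq]
  have : (Scheme.Modules.pullback c).IsLeftAdjoint := (Scheme.Modules.pullbackPushforwardAdjunction c).isLeftAdjoint
  infer_instance

theorem pullK_redPull : (Scheme.Modules.pullback c).map (kernel.ι α) ≫ redPull α = 0 := by
  rw [redPull_eq, ← Category.assoc, ← Functor.map_comp, kernel.condition]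
  simp

variable (α) in
/-- The map onto the kernel of the reduction. -/
def toKer : (Scheme.Modules.pullback c).obj (kernel α) ⟶ kernel (redPull α) :=
  kernel.lift _ ((Scheme.Modules.pullback c).map (kernel.ι α)) pullK_redPull

include hα in
theorem epi_toKer : Epi (toKer α) := by
  have := epi_red hα
  have hiso := DCat.ClosedPush.isIso_counit c (ClSub.idealMod Δ.ker)
  have : (Scheme.Modules.pullback c).IsLeftAdjoint := (Scheme.Modules.pullbackPushforwardAdjunction c).isLeftAdjoint
  let S : ShortComplex Z.Modules := ShortComplex.mk (kernel.ι α) α (kernel.condition α)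
  have hS : S.ShortExact :=
    { exact := S.exact_of_f_is_kernel (kernelIsKernel α)
      mono_f := inferInstanceAs (Mono (kernel.ι α))
      epi_g := inferInstanceAs (Epi α) }
  haveI : PreservesColimitsOfSize.{u, u} (Scheme.Modules.pullback c) :=
    (Scheme.Modules.pullbackPushforwardAdjunction c).leftAdjoint_preservesColimits
  have hpf : PreservesFiniteColimits (Scheme.Modules.pullback c) := inferInstance
  have e' := (Functor.preservesFiniteColimits_tfae (Scheme.Modules.pullback c)).out 3 0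
  have he := (e'.1 hpf S hS).1
  let S' : ShortComplex P.Modules :=
    ShortComplex.mk ((Scheme.Modules.pullback c).map (kernel.ι α)) (redPull α) pullK_redPull
  have he' : S'.Exact := by
    refine ShortComplex.exact_of_iso (ShortComplex.isoMk (S₁ := S.map (Scheme.Modules.pullback c)) (S₂ := S') (Iso.refl _) (Iso.refl _) (asIso
      ((Scheme.Modules.pullbackPushforwardAdjunction c).counit.app (ClSub.idealMod Δ.ker))) ?_ ?_) he
    · simp [S, S']
    · simp [S, S', redPull_eq]
  exact S'.exact_iff_epi_kernel_lift.1 he'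

/-- Functionals on the kernel vanish on the kernel of `toKer`. -/
theorem kill (hα : IsRed Δ c α)
    (ψ : kernel α ⟶ (Scheme.Modules.pushforward c).obj ((Scheme.Modules.pushforward Δ).obj (Coh.structureModule X))) :
    kernel.ι (toKer α) ≫ ((Scheme.Modules.pullbackPushforwardAdjunction c).homEquiv _ _).symm ψ = 0 := by
  let N := (Scheme.Modules.pushforward Δ).obj (Coh.structureModule X)
  let ψ' := ((Scheme.Modules.pullbackPushforwardAdjunction c).homEquiv _ _).symm ψ
  refine hom_ext_gm _ _ fun p w => ?_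
  rw [Functor.map_comp, Functor.map_zero]
  simp only [ModuleCat.hom_comp, LinearMap.comp_apply, ModuleCat.hom_zero, LinearMap.zero_apply]
  have hw : (DerSch.stalkFunctor P p).map ((Scheme.Modules.pullback c).map (kernel.ι α))
      ((DerSch.stalkFunctor P p).map (kernel.ι (toKer α)) w) = 0 := by
    rw [← ConcreteCategory.comp_apply, ← Functor.map_comp,
      show kernel.ι (toKer α) ≫ (Scheme.Modules.pullback c).map (kernel.ι α) = 0 by
        rw [← kernel.lift_ι (redPull α) _ (pullK_redPull (α := α)), ← Category.assoc,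
          show kernel.ι (toKer α) ≫ kernel.lift (redPull α) _ _ = 0 from kernel.condition _, zero_comp],
      Functor.map_zero]
    rfl
  generalize (DerSch.stalkFunctor P p).map (kernel.ι (toKer α)) w = t at hw ⊢
  obtain ⟨U, hU, s, rfl⟩ := exists_gm_pullSect c _ p (c.stalkMap_surjective p) t
  have hψs : (DerSch.stalkFunctor P p).map ψ' (gm _ (c ⁻¹ᵁ U) p hU (OmegaSh.pullSect c _ U s)) =
      gm N (c ⁻¹ᵁ U) p hU (ψ.app U s) := by
    rw [map_gm]
    exact congrArg (gm N (c ⁻¹ᵁ U) p hU) (H8Lim.homEquiv_symm_app_pullSec c ψ s)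
  rw [hψs]
  rw [map_gm] at hw
  have hnat : ((Scheme.Modules.pullback c).map (kernel.ι α)).app (c ⁻¹ᵁ U) (OmegaSh.pullSect c _ U s) =
      OmegaSh.pullSect c _ U ((kernel.ι α).app U s) := DCat.PullTensor.pullback_map_pullSec c (kernel.ι α) U s
  rw [hnat] at hw
  -- the germ lies in `ker (c_p) • J`
  letI := (c.stalkMap p).hom.toAlgebra
  obtain ⟨E, hE⟩ := exists_pullback_stalk_equiv c (ClSub.idealMod (Δ ≫ c).ker) p
  have h1 := mem_ker_smul_of_one_tmul_eq_zero (c.stalkMap_surjective p)
    (E.injective ((hE U hU _).trans (hw.trans (map_zero E).symm)))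
  obtain ⟨ιc, -, hιc⟩ := exists_idealStalkMap c.ker (c p)
  let Pr : (DerSch.stalkFunctor Z (c p)).obj (ClSub.idealMod (Δ ≫ c).ker) → Prop := fun m =>
    ∃ (V : Z.Opens) (hV : c p ∈ V) (k : Γ(kernel α, V)),
      gm _ V (c p) hV ((kernel.ι α).app V k) = m ∧ ψ.app V k = 0
  have hPr : Pr (gm _ U (c p) hU ((kernel.ι α).app U s)) := by
    refine Submodule.smul_induction_on (p := Pr) h1 (fun a ha m _ => ?_) (fun m m' hm hm' => ?_)
    · obtain ⟨z, hz⟩ := (mem_range_idealStalkMap c p hιc a).2 ha
      obtain ⟨V₁, hV₁, a₁, rfl⟩ := exists_gm _ z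
      rw [hιc] at hz
      obtain ⟨V₂, hV₂, b, rfl⟩ := exists_gm _ m
      let V := V₁ ⊓ V₂
      let a₂ := (ClSub.idealMod c.ker).presheaf.map (homOfLE (inf_le_left : V ≤ V₁)).op a₁
      let b₂ := (ClSub.idealMod (Δ ≫ c).ker).presheaf.map (homOfLE (inf_le_right : V ≤ V₂)).op b
      have hca : c.app V (OmegaSh.idealSect c.ker V a₂) = 0 := Omega15.app_idealSect c V a₂
      obtain ⟨ã, hã⟩ := exists_mem_of_app_eq_zero (Δ ≫ c) (a := OmegaSh.idealSect c.ker V a₂)
        (by rw [Scheme.Hom.comp_app, CommRingCat.comp_apply, hca, map_zero])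
      have hαã : α.app V ã = 0 := by
        refine idealSect_injective Δ.ker (c ⁻¹ᵁ V) ?_
        rw [hα, hã, hca]
        exact (map_zero (OmegaSh.idealSect Δ.ker (c ⁻¹ᵁ V))).symm
      obtain ⟨k, hk⟩ := Coherent.kernel_sections_exact α ã hαã
      refine ⟨V, ⟨hV₁, hV₂⟩, OmegaSh.idealSect (Δ ≫ c).ker V b₂ • k, ?_, ?_⟩
      · rw [Scheme.Modules.Hom.app_smul, hk]
        have hprod : OmegaSh.idealSect (Δ ≫ c).ker V b₂ • ã = OmegaSh.idealSect c.ker V a₂ • b₂ := by
          refine idealSect_injective (Δ ≫ c).ker V ?_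
          rw [Omega15.idealSect_smul, Omega15.idealSect_smul, hã, mul_comm]
        rw [hprod, gm_smul, gm_res _ hV₂ inf_le_right, ← hz]
        congr 1
        rw [← hιc V ⟨hV₁, hV₂⟩ a₂, ← hιc V₁ hV₁ a₁, gm_res _ hV₁ inf_le_left]
      · rw [Scheme.Modules.Hom.app_smul]
        have h4 : Δ.app (c ⁻¹ᵁ V) (c.app V (OmegaSh.idealSect (Δ ≫ c).ker V b₂)) = 0 := by
          rw [← CommRingCat.comp_apply, ← Scheme.Hom.comp_app]
          exact Omega15.app_idealSect (Δ ≫ c) V b₂
        refine Eq.trans (show OmegaSh.idealSect (Δ ≫ c).ker V b₂ • ψ.app V k =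
          Δ.app (c ⁻¹ᵁ V) (c.app V (OmegaSh.idealSect (Δ ≫ c).ker V b₂)) •
            (show Γ(Coh.structureModule X, Δ ⁻¹ᵁ (c ⁻¹ᵁ V)) from ψ.app V k) from rfl) ?_
        rw [h4, zero_smul]
    · obtain ⟨V₁, hV₁, k₁, rfl, h₁⟩ := hm
      obtain ⟨V₂, hV₂, k₂, rfl, h₂⟩ := hm'
      let V := V₁ ⊓ V₂
      refine ⟨V, ⟨hV₁, hV₂⟩, (kernel α).presheaf.map (homOfLE (inf_le_left : V ≤ V₁)).op k₁ +
        (kernel α).presheaf.map (homOfLE (inf_le_right : V ≤ V₂)).op k₂, ?_, ?_⟩
      · rw [map_add, gm_add, ← map_gm, ← map_gm, gm_res _ hV₁ inf_le_left, gm_res _ hV₂ inf_le_right, map_gm, map_gm]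
      · have e₁ := congr($(ψ.mapPresheaf.naturality (homOfLE (inf_le_left : V ≤ V₁)).op) k₁)
        have e₂ := congr($(ψ.mapPresheaf.naturality (homOfLE (inf_le_right : V ≤ V₂)).op) k₂)
        rw [map_add]
        refine Eq.trans (congrArg₂ (· + ·) e₁ e₂) ?_
        simp only [CategoryTheory.comp_apply, h₁, h₂]
        show (ConcreteCategory.hom (((Scheme.Modules.pushforward c).obj N).presheaf.map
            (homOfLE (inf_le_left : V ≤ V₁)).op) (ψ.app V₁ k₁)) +
          (ConcreteCategory.hom (((Scheme.Modules.pushforward c).obj N).presheaf.map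
            (homOfLE (inf_le_right : V ≤ V₂)).op) (ψ.app V₂ k₂)) = 0
        rw [h₁, h₂, map_zero, map_zero, add_zero]
  obtain ⟨V, hV, k, hk, hk0⟩ := hPr
  have hinj : Function.Injective ((DerSch.stalkFunctor Z (c p)).map (kernel.ι α)) :=
    (ModuleCat.mono_iff_injective _).1 inferInstance
  rw [← map_gm, ← map_gm] at hk
  have hk' := congrArg ((DerSch.stalkFunctor Z (c p)).map ψ) (hinj hk)
  rw [map_gm, map_gm, hk0, gm_zero] at hk'
  obtain ⟨W, hW, i₁, i₂, he⟩ := TopCat.Presheaf.germ_eq
    ((Scheme.Modules.pushforward c).obj N).presheaf (c p) hU hU (ψ.app U s) 0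
    (hk'.symm.trans (map_zero _).symm)
  rw [map_zero] at he
  rw [← gm_res N hU (show c ⁻¹ᵁ W ≤ c ⁻¹ᵁ U from c.preimage_mono i₁.le) (show p ∈ c ⁻¹ᵁ W from hW)]
  exact (congrArg (gm N (c ⁻¹ᵁ W) p hW) he).trans (gm_zero _ _)

/-- A functional on the kernel of the reduction, descended. -/
theorem exists_rho (hα : IsRed Δ c α)
    (ψ : kernel α ⟶ (Scheme.Modules.pushforward c).obj ((Scheme.Modules.pushforward Δ).obj (Coh.structureModule X))) :
    ∃! ρ : kernel (redPull α) ⟶ (Scheme.Modules.pushforward Δ).obj (Coh.structureModule X),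
      toKer α ≫ ρ = ((Scheme.Modules.pullbackPushforwardAdjunction c).homEquiv _ _).symm ψ := by
  have := epi_toKer hα
  refine ⟨Abelian.epiDesc (toKer α) _ (kill hα ψ), Abelian.comp_epiDesc _ _ _, fun ρ hρ => ?_⟩
  rw [← cancel_epi (toKer α), hρ, Abelian.comp_epiDesc]

section Bound

variable {k : Type u} [Field k] (p : P ⟶ Spec (CommRingCat.of k)) [IsProper p]

theorem isCohD_single {W : Scheme.{u}} [AlgebraicGeometry.IsNoetherian W] {M : W.Modules} (hM : Coh.IsCoh M) :
    DCoh.IsCohD ((DerivedCategory.singleFunctor W.Modules 0).obj M) := fun q => by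
  by_cases hq : q = 0
  · subst hq
    exact Coherent.isCoh_iso ((DerivedCategory.singleFunctorCompHomologyFunctorIso _ 0).app M).symm hM
  · rcases lt_or_gt_of_ne hq with hlt | hlt
    · exact Coherent.isCoh_of_isZero (DerivedCategory.isZero_of_isGE _ 0 q hlt)
    · exact Coherent.isCoh_of_isZero (DerivedCategory.isZero_of_isLE _ 0 q hlt)

include p in
theorem finite_hom :
    letI : P.Over (Spec (CommRingCat.of k)) := ⟨p⟩
    Module.Finite k ((DerivedCategory.singleFunctor P.Modules 0).obj (ClSub.idealMod Δ.ker) ⟶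
      ((DerivedCategory.singleFunctor P.Modules 0).obj ((Scheme.Modules.pushforward Δ).obj (Coh.structureModule X)))⟦(1 : ℤ)⟧) := by
  letI : P.Over (Spec (CommRingCat.of k)) := ⟨p⟩
  haveI : IsProper (P ↘ Spec (CommRingCat.of k)) := ‹IsProper p›
  haveI : IsLocallyNoetherian P := LocallyOfFiniteType.isLocallyNoetherian p
  haveI : IsLocallyNoetherian X := LocallyOfFiniteType.isLocallyNoetherian Δ
  haveI : CompactSpace P := QuasiCompact.compactSpace_of_compactSpace p
  haveI : AlgebraicGeometry.IsNoetherian P := { }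
  have hN : Coh.IsCoh ((Scheme.Modules.pushforward Δ).obj (Coh.structureModule X)) :=
    Coherent.isCoh_push_finite Δ (Coherent.isCoh_structureModule X)
  have hI := CurveRR24.isCoh_idealMod' Δ.ker
  have := DerivedCategory.TStructure.t.isGE_shift
    ((DerivedCategory.singleFunctor P.Modules 0).obj ((Scheme.Modules.pushforward Δ).obj (Coh.structureModule X))) 0 (1 : ℤ) (-1) (by omega)
  exact Dual22Lib.HomFinite.mem_K _ hI _ (-1) this
    (Dual22Lib.FinHom.isCohD_shift (isCohD_single hN) 1)

include p in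
/-- Beyond a bound depending only on `Δ`, some functional extends to the ideal. -/
theorem exists_bound : ∃ d : ℕ, ∀ (Z : Scheme.{u}) (c : P ⟶ Z) [IsClosedImmersion c]
    (α : ClSub.idealMod (Δ ≫ c).ker ⟶ (Scheme.Modules.pushforward c).obj (ClSub.idealMod Δ.ker)),
    IsRed Δ c α → ∀ n : ℕ, d < n →
    letI : P.Over (Spec (CommRingCat.of k)) := ⟨p⟩
    ∀ ψ : (Fin n → k) → (kernel α ⟶
        (Scheme.Modules.pushforward c).obj ((Scheme.Modules.pushforward Δ).obj (Coh.structureModule X))),
      (∀ l l', ψ (l + l') = ψ l + ψ l') →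
      (∀ (a : k) l, ψ (a • l) = ψ l ≫ (Scheme.Modules.pushforward c).map
        (a • 𝟙 ((Scheme.Modules.pushforward Δ).obj (Coh.structureModule X)))) →
      ∃ l : Fin n → k, l ≠ 0 ∧ ∃ R : ClSub.idealMod (Δ ≫ c).ker ⟶
          (Scheme.Modules.pushforward c).obj ((Scheme.Modules.pushforward Δ).obj (Coh.structureModule X)),
        kernel.ι α ≫ R = ψ l := by
  letI : P.Over (Spec (CommRingCat.of k)) := ⟨p⟩
  let sg := DerivedCategory.singleFunctor P.Modules 0
  let N := (Scheme.Modules.pushforward Δ).obj (Coh.structureModule X)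
  let H := (sg.obj (ClSub.idealMod Δ.ker) ⟶ (sg.obj N)⟦(1 : ℤ)⟧)
  haveI : Module.Finite k H := finite_hom (Δ := Δ) p
  refine ⟨Module.finrank k H, fun Z c _ α hα n hn ψ hadd hsmul => ?_⟩
  let adj := Scheme.Modules.pullbackPushforwardAdjunction c
  choose ρ hρ hρu using fun l => exists_rho hα (ψ l)
  have := epi_toKer hα
  have := epi_redPull hα
  have ρadd : ∀ l l', ρ (l + l') = ρ l + ρ l' := fun l l' => by
    refine (hρu (l + l') _ ?_).symm
    simp only [Preadditive.comp_add, hρ, hadd]
    rw [← cancel_epi (𝟙 _), Adjunction.homEquiv_counit, Adjunction.homEquiv_counit, Adjunction.homEquiv_counit,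
      Functor.map_add, Preadditive.add_comp]
  have ρsmul : ∀ (a : k) l, ρ (a • l) = a • ρ l := fun a l => by
    refine (hρu (a • l) _ ?_).symm
    simp only [hsmul]
    rw [Adjunction.homEquiv_naturality_right_symm, ← hρ, Category.assoc,
      show ρ l ≫ (a • 𝟙 N) = a • ρ l by rw [Linear.comp_smul, Category.comp_id]]
  let S : ShortComplex P.Modules := ShortComplex.mk (kernel.ι (redPull α)) (redPull α) (kernel.condition _)
  have hS : S.ShortExact :=
    { exact := S.exact_of_f_is_kernel (kernelIsKernel _)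
      mono_f := inferInstanceAs (Mono (kernel.ι _))
      epi_g := inferInstanceAs (Epi (redPull α)) }
  let φ : (Fin n → k) →ₗ[k] H :=
    { toFun := fun l => hS.singleδ ≫ (sg.map (ρ l))⟦(1 : ℤ)⟧'
      map_add' := fun l l' => by rw [ρadd, Functor.map_add, Functor.map_add, Preadditive.comp_add]
      map_smul' := fun a l => by
        rw [ρsmul, Functor.map_smul, Functor.map_smul, Linear.comp_smul, RingHom.id_apply] }
  obtain ⟨l, hl, hl0⟩ : ∃ l, φ l = 0 ∧ l ≠ 0 := by
    by_contra hne
    push Not at hne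
    have hinj : Function.Injective φ := (injective_iff_map_eq_zero φ).2 hne
    have h := LinearMap.finrank_le_finrank_of_injective hinj
    simp at h
    omega
  refine ⟨l, hl0, ?_⟩
  obtain ⟨g, hg⟩ := Triangle.yoneda_exact₂ _
    (rot_of_distTriang _ (rot_of_distTriang _ hS.singleTriangle_distinguished)) ((sg.map (ρ l))⟦(1 : ℤ)⟧') hl
  obtain ⟨g', rfl⟩ := (shiftFunctor (DCoh.D P) (1 : ℤ)).map_surjective g
  obtain ⟨r, rfl⟩ := sg.map_surjective g'
  simp only [Triangle.rotate_mor₂, Triangle.rotate_mor₃] at hg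
  have hr : sg.map (kernel.ι (redPull α) ≫ (-r)) = sg.map (ρ l) := by
    apply (shiftFunctor (DCoh.D P) (1 : ℤ)).map_injective
    rw [hg]
    simp [sg, S]
  refine ⟨adj.homEquiv _ _ (-r), ?_⟩
  apply (adj.homEquiv _ _).symm.injective
  rw [Adjunction.homEquiv_naturality_left_symm, Equiv.symm_apply_apply]
  refine Eq.trans ?_ (hρ l)
  rw [← sg.map_injective hr, ← Category.assoc]
  congr 1
  exact (kernel.lift_ι _ _ _).symm

end Bound

end Groth.Agent.DefFin29
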