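import Groth.Agent.DefFin29.Trivial
import Groth.Agent.ArtFunLib.Tangent
import Groth.Agent.S12732

/-!
# First order deformations of a proper scheme form a finite dimensional space
-/

set_option autoImplicit false
set_option backward.isDefEq.respectTransparency.types false
set_option backward.isDefEq.respectTransparency false
set_option linter.style.haveILetI false

universe u

open CategoryTheory CategoryTheory.Limits AlgebraicGeometry
open ArtFun Groth.Agent.SemiExt29

noncomputable section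

namespace Groth.Agent.DefFin29

variable {Λ k : Type u} [CommRing Λ] [Field k] [Algebra Λ k] {X : Scheme.{u}} {x : X ⟶ Spec (CommRingCat.of k)}

/-- The map `k[W] → k[ε]` of a linear form, over `Λ`. -/
def combW {n : ℕ} (L : (Fin n → k) →ₗ[k] k) : artW Λ k n ⟶ Art.dual Λ k :=
  ⟨(TrivSqZeroExt.map L).restrictScalars Λ, AlgHom.ext fun z => TrivSqZeroExt.fst_map _ z⟩

theorem snd_combW {n : ℕ} (L : (Fin n → k) →ₗ[k] k) (a : artW Λ k n) :
    TrivSqZeroExt.snd (combW L a : DualNumber k) = L (TrivSqZeroExt.snd a) :=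
  TrivSqZeroExt.snd_map _ a

theorem combW_add {n : ℕ} (L L' : (Fin n → k) →ₗ[k] k) :
    combW (Λ := Λ) (L + L') = ArtFunLib.gadd (combW L) (combW L') :=
  ArtFunLib.hom_dual_ext fun t => by
    rw [ArtFunLib.gadd_snd, snd_combW, snd_combW, snd_combW]
    rfl

theorem combW_smul {n : ℕ} (a : k) (L : (Fin n → k) →ₗ[k] k) :
    combW (Λ := Λ) (a • L) = combW L ≫ Art.scale a :=
  ArtFunLib.hom_dual_ext fun t => by
    rw [snd_combW]
    exact ((ArtFunLib.scale_snd a (combW L t)).trans (congrArg (a * ·) (snd_combW L t))).symm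

theorem combW_zero {n : ℕ} : combW (Λ := Λ) (0 : (Fin n → k) →ₗ[k] k) = ArtFunLib.zeroHom _ :=
  ArtFunLib.hom_dual_ext fun t => by rw [snd_combW, ArtFunLib.zeroHom_snd]; rfl

theorem exists_lift_family (n : ℕ) (z : Fin n → (defFunctor (Λ := Λ) X x).obj (Art.dual Λ k)) :
    ∃ w : (defFunctor (Λ := Λ) X x).obj (artW Λ k n),
      ∀ j, (defFunctor (Λ := Λ) X x).map (combW (LinearMap.proj j)) w = z j := by
  induction n with
  | zero =>
    let inc : Art.base Λ k ⟶ artW Λ k 0 :=
      ⟨IsScalarTower.toAlgHom Λ k (TrivSqZeroExt k (Fin 0 → k)), AlgHom.ext fun c => rfl⟩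
    exact ⟨(defFunctor (Λ := Λ) X x).map inc (DefSch.self X x Et18.DefGlue.flat_x).cl, fun j => j.elim0⟩
  | succ n ih =>
    obtain ⟨w, hw⟩ := ih (fun j => z j.succ)
    obtain ⟨v, hv₁, hv₂⟩ := (ArtFunLib.cmp_surjective_iff _).1
      (Et18.DefGlue.heps_defFunctor (X := X) (x := x) _ _ (isFibreProd (Λ := Λ) (k := k) n)).2 w (z 0)
      (ArtFunLib.base_eq Et18.DefGlue.h0_defFunctor _ _)
    refine ⟨v, fun j => Fin.cases ?_ (fun i => ?_) j⟩
    · refine Eq.trans ?_ hv₂
      congr 1
    · rw [← hw i, ← hv₁, ArtFunLib.map_map]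
      refine congrArg (fun g : artW Λ k (n + 1) ⟶ Art.dual Λ k => (defFunctor (Λ := Λ) X x).map g v) ?_
      exact ArtFunLib.hom_dual_ext fun t => by
        rw [snd_combW, ArtFunLib.comp_apply', snd_combW]
        exact (congrArg (fun v : Fin n → k => v i)
          (TrivSqZeroExt.snd_map (LinearMap.funLeft k k (Fin.succ : Fin n → Fin (n + 1))) t)).symm

/-- A deformation over `k[W]` regarded over `k`. -/
def toField {n : ℕ} (ξ : DefSch (Λ := Λ) X x (artW Λ k n)) : DefSch (Λ := k) X x (artW k k n) :=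
  ⟨ξ.total, ξ.f, ξ.flat, ξ.i, ξ.isPullback⟩

theorem exists_dependence [IsProper x] [TangentStr (defFunctor (Λ := Λ) X x)] :
    ∃ d : ℕ, ∀ n, d < n → ∀ z : Fin n → TangentSpace (defFunctor (Λ := Λ) X x),
      ∃ l : Fin n → k, l ≠ 0 ∧ ∑ j, l j • z j = 0 := by
  obtain ⟨d, hd⟩ := exists_twist (x := x)
  refine ⟨d, fun n hn z => ?_⟩
  let F := defFunctor (Λ := Λ) X x
  obtain ⟨w, hw⟩ := exists_lift_family n z
  let Φ : ((Fin n → k) →ₗ[k] k) →ₗ[k] TangentSpace F :=
    { toFun := fun L => TangentSpace.mk (F.map (combW L) w)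
      map_add' := fun L L' => by
        show F.map (combW (L + L')) w = _
        rw [combW_add, ArtFunLib.gadd, ← ArtFunLib.map_map]
        refine (TangentStr.add_eq _).symm.trans ?_
        rw [ArtFunLib.map_map, ArtFunLib.map_map, ArtFunLib.pair_pr₁, ArtFunLib.pair_pr₂]
        rfl
      map_smul' := fun a L => by
        show F.map (combW (a • L)) w = _
        rw [combW_smul, ← ArtFunLib.map_map]
        exact (TangentStr.smul_eq a _).symm }
  induction w using Quotient.inductionOn with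
  | h ξ =>
  obtain ⟨l, hl, δ, hδ⟩ := hd n hn (toField ξ)
  refine ⟨l, hl, ?_⟩
  have hsum : ∑ j, l j • z j = Φ (dot l) := by
    rw [dot, map_sum]
    refine Finset.sum_congr rfl fun j _ => ?_
    rw [map_smul]
    exact congrArg (l j • ·) (hw j).symm
  rw [hsum, ← map_zero Φ]
  show (ξ.baseChange (combW (dot l))).cl = F.map (combW 0) ξ.cl
  rw [combW_zero, ArtFunLib.zeroHom, ← ArtFunLib.map_map,
    ArtFunLib.base_eq Et18.DefGlue.h0_defFunctor (F.map (Art.toBase _) ξ.cl) (DefSch.self X x Et18.DefGlue.flat_x).cl]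
  obtain ⟨e⟩ := trivial_of_twist hδ
  let T := DefSch.trivial X x Et18.DefGlue.flat_x (Art.dual k k)
  let T' : DefSch (Λ := Λ) X x (Art.dual Λ k) := ⟨T.total, T.f, T.flat, T.i, T.isPullback⟩
  let e' : (ξ.baseChange (combW (dot l))).Iso T' := ⟨e.iso, e.hom_f, e.i_hom⟩
  let m : Et18.DefGlue.Mor (Art.baseToDual (Λ := Λ) (k := k)) T' (DefSch.self X x Et18.DefGlue.flat_x) :=
    { hom := pullback.fst x (Art.specMap (Art.ofBase (Art.dual k k)))
      w := pullback.condition
      i_hom := pullback.lift_fst _ _ _ }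
  exact Quotient.sound ⟨e'.trans m.toBaseChange⟩

theorem hfin [IsProper x] [TangentStr (defFunctor (Λ := Λ) X x)] : Hfin (defFunctor (Λ := Λ) X x) := by
  obtain ⟨d, hd⟩ := exists_dependence (Λ := Λ) (x := x)
  show Module.Finite k (TangentSpace (defFunctor (Λ := Λ) X x))
  refine Module.rank_lt_aleph0_iff.1 (lt_of_le_of_lt (rank_le (n := d) fun s hs => ?_) (Cardinal.natCast_lt_aleph0))
  by_contra hlt
  push Not at hlt
  obtain ⟨l, hl, hl0⟩ := hd s.card hlt (fun j => (s.equivFin.symm j : TangentSpace (defFunctor (Λ := Λ) X x)))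
  have hli : LinearIndependent k fun j : Fin s.card =>
      (s.equivFin.symm j : TangentSpace (defFunctor (Λ := Λ) X x)) := hs.comp _ s.equivFin.symm.injective
  exact hl (funext fun j => Fintype.linearIndependent_iff.1 hli l hl0 j)

theorem hasHull [IsNoetherianRing Λ] (hk : Function.Surjective (algebraMap Λ k)) [IsProper x] :
    HasHull (defFunctor (Λ := Λ) X x) := by
  haveI : Module.Finite Λ k := Module.Finite.of_surjective (Algebra.linearMap Λ k) hk
  letI := ArtFunLib.tangentStr (F := defFunctor (Λ := Λ) X x) Et18.DefGlue.h0_defFunctor Et18.DefGlue.heps_defFunctor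
  refine S12732.result ?_ _ Et18.DefGlue.h0_defFunctor Et18.DefGlue.s1_defFunctor Et18.DefGlue.heps_defFunctor hfin
  refine ⟨fun D D' => Derivation.ext fun a => ?_⟩
  obtain ⟨b, rfl⟩ := hk a
  rw [Derivation.map_algebraMap, Derivation.map_algebraMap]

end Groth.Agent.DefFin29
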